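import Cfsg.Agent.Lib.Char.Counting
import Cfsg.Agent.Lib.Char.Kernel

/-!
# One step of Taketa's argument
-/

set_option autoImplicit false
set_option linter.unusedSectionVars false

namespace CfsgLib.ThreeDegrees

open Cfsg CfsgLib.Char
open scoped CfsgLib.Char commutatorElement

theorem taketa_step {G : Type*} [Group G] [Fintype G] (k d : ℕ) (χ : Cfsg.IrrCharacter G)
    (hd : (χ : G → ℂ) 1 = d) (H : Subgroup G) (lam : H →* ℂˣ)
    (hχ : (χ : G → ℂ) = Cfsg.indFun H (fun h => (lam h : ℂ)))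
    (hlow : ∀ (ψ : Cfsg.IrrCharacter G) (e : ℕ), e < d → (ψ : G → ℂ) 1 = e →
      ∀ x ∈ derivedSeries G k, (ψ : G → ℂ) x = (ψ : G → ℂ) 1) :
    ∀ g ∈ derivedSeries G (k + 1), (χ : G → ℂ) g = (χ : G → ℂ) 1 := by
  classical
  intro g hg
  have hidx : H.index = d := by
    have h1 := congrFun hχ 1
    rw [hd, indFun_one] at h1
    simp only [map_one, Units.val_one, mul_one] at h1
    exact_mod_cast h1.symm
  obtain ⟨d', rfl⟩ : ∃ d', d = d' + 1 := by
    refine ⟨d - 1, ?_⟩
    have : H.index ≠ 0 := Subgroup.index_ne_zero_of_finite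
    omega
  have hP := isCharacter_indFun H (isCharacter_one (G := H))
  obtain ⟨K, hKn, hK, -⟩ := exists_kernel hP
  obtain ⟨m, hm⟩ := exists_multiplicities hP
  have hP1 : Cfsg.indFun H (fun _ : H => (1 : ℂ)) 1 = ((d' + 1 : ℕ) : ℂ) := by
    rw [indFun_one, hidx, mul_one]
  have htriv : m ⟨fun _ => 1, isIrrCharacter_one⟩ ≠ 0 := by
    intro h0
    have h1 := classInner_sum_smul_irr (fun ψ => (m ψ : ℂ)) (⟨fun _ => 1, isIrrCharacter_one⟩ : Cfsg.IrrCharacter G)
    rw [← hm, h0, Nat.cast_zero, frobenius_reciprocity H _ (χ := fun _ => (1 : ℂ)) (fun _ _ => rfl)] at h1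
    exact one_ne_zero ((classInner_irr_self (isIrrCharacter_one (G := H))).symm.trans h1)
  have hKd : derivedSeries G k ≤ K := by
    intro x hx
    rw [hK, hm]
    simp only [Finset.sum_apply, Pi.smul_apply, smul_eq_mul]
    refine Finset.sum_congr rfl fun ψ _ => ?_
    by_cases hmψ : m ψ = 0
    · simp [hmψ]
    congr 1
    by_cases hψ : (ψ : G → ℂ) = fun _ => 1
    · rw [hψ]
    obtain ⟨e, he0, he⟩ := exists_nat_degree_irr ψ.2
    have hle : e + 1 ≤ d' + 1 := by
      have h1 := congrFun hm 1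
      rw [hP1] at h1
      simp only [Finset.sum_apply, Pi.smul_apply, smul_eq_mul] at h1
      choose f hf using fun ξ : Cfsg.IrrCharacter G => exists_nat_degree_irr ξ.2
      simp only [(hf _).2] at h1
      have h2 : d' + 1 = ∑ ξ : Cfsg.IrrCharacter G, m ξ * f ξ := by exact_mod_cast h1
      have hne : ψ ≠ ⟨fun _ => 1, isIrrCharacter_one⟩ := fun h => hψ (congrArg Subtype.val h)
      have h3 := Finset.add_le_sum (f := fun ξ => m ξ * f ξ) (fun _ _ => Nat.zero_le _)
        (Finset.mem_univ ψ) (Finset.mem_univ (⟨fun _ => 1, isIrrCharacter_one⟩ : Cfsg.IrrCharacter G)) hne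
      rw [← h2] at h3
      have h4 : f ψ = e := by exact_mod_cast ((hf ψ).2.symm.trans he)
      rw [h4] at h3
      have h5 : e ≤ m ψ * e := Nat.le_mul_of_pos_left e (Nat.pos_of_ne_zero hmψ)
      have h6 : 1 ≤ m ⟨fun _ => 1, isIrrCharacter_one⟩ * f ⟨fun _ => 1, isIrrCharacter_one⟩ :=
        Nat.mul_pos (Nat.pos_of_ne_zero htriv) (hf _).1
      omega
    exact hlow ψ e (by omega) he x hx
  have hKH : K ≤ H := by
    intro x hx
    by_contra hxH
    have h1 := (hK x).mp hx
    rw [hP1, Cfsg.indFun, inv_mul_eq_iff_eq_mul₀ (Nat.cast_ne_zero.mpr Nat.card_pos.ne'),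
      ← hidx, ← Nat.cast_mul, H.card_mul_index] at h1
    have hterm : ∀ y : G, Cfsg.extendByZero H (fun _ : H => (1 : ℂ)) (y⁻¹ * x * y) =
        if y⁻¹ * x * y ∈ H then 1 else 0 := by
      intro y; split_ifs with h
      · rw [extendByZero_mem H _ h]
      · rw [extendByZero_notMem H _ h]
    rw [Finset.sum_congr rfl fun y _ => hterm y, Finset.sum_boole, Nat.card_eq_fintype_card,
      Nat.cast_inj] at h1
    have h2 := Finset.eq_univ_of_card _ h1
    have h3 : (1 : G) ∈ Finset.univ.filter (fun y : G => y⁻¹ * x * y ∈ H) := by rw [h2]; exact Finset.mem_univ _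
    simp [hxH] at h3
  let L : Subgroup G := (lam.ker).map H.subtype
  have hL : derivedSeries G (k + 1) ≤ L := by
    rw [derivedSeries_succ, Subgroup.commutator_le]
    intro a ha b hb
    refine ⟨⁅(⟨a, hKH (hKd ha)⟩ : H), ⟨b, hKH (hKd hb)⟩⁆, ?_, rfl⟩
    show _ ∈ lam.ker
    rw [MonoidHom.mem_ker, map_commutatorElement, commutatorElement_eq_one_iff_mul_comm, mul_comm]
  rw [hd, ← hidx, hχ, Cfsg.indFun, inv_mul_eq_iff_eq_mul₀ (Nat.cast_ne_zero.mpr Nat.card_pos.ne'),
    ← Nat.cast_mul, H.card_mul_index]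
  have hterm : ∀ y : G, Cfsg.extendByZero H (fun h : H => (lam h : ℂ)) (y⁻¹ * g * y) = 1 := by
    intro y
    have hy : y⁻¹ * g * y ∈ derivedSeries G (k + 1) := by
      have := (derivedSeries_normal G (k + 1)).conj_mem g hg y⁻¹
      rwa [inv_inv] at this
    obtain ⟨h, hh, he⟩ := hL hy
    rw [← he]
    show Cfsg.extendByZero H _ (h : G) = 1
    rw [extendByZero_coe, show lam h = 1 from MonoidHom.mem_ker.mp hh]
    rfl
  rw [Finset.sum_congr rfl fun y _ => hterm y]
  simp [Nat.card_eq_fintype_card]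

end CfsgLib.ThreeDegrees
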