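import Cfsg.Agent.Lib.ThreeDegrees.Coprime
import Cfsg.Agent.Lib.ThreeDegrees.Taketa
import Cfsg.Agent.Lib.Char.Extraspecial

/-!
# Three character degrees
-/

set_option autoImplicit false
set_option linter.style.haveILetI false

namespace CfsgLib.ThreeDegrees

open Cfsg CfsgLib.Char CfsgLib.PrimeDegrees
open scoped ComplexConjugate CfsgLib.Char commutatorElement

universe u

theorem derived_three_monomial {G : Type u} [Group G] [Fintype G] {m n : ℕ} (hmn : m < n)
    (hcd : ∀ χ : IrrCharacter G, (χ : G → ℂ) 1 = (1 : ℕ) ∨ (χ : G → ℂ) 1 = m ∨ (χ : G → ℂ) 1 = n)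
    (hmon : ∀ χ : IrrCharacter G, ∃ (H : Subgroup G) (lam : H →* ℂˣ),
      (χ : G → ℂ) = indFun H (fun h => (lam h : ℂ))) : derivedSeries G 3 = ⊥ := by
  classical
  have h1 : ∀ χ : IrrCharacter G, (χ : G → ℂ) 1 = (1 : ℕ) →
      ∀ x ∈ derivedSeries G 1, (χ : G → ℂ) x = (χ : G → ℂ) 1 := by
    intro χ hχ x hx
    rw [derivedSeries_one] at hx
    rw [Nat.cast_one] at hχ
    have hker := Abelianization.commutator_subset_ker (linearHom (isCharacter_of_isIrr χ.2) hχ) hx
    rw [hχ, ← linearHom_apply (isCharacter_of_isIrr χ.2) hχ, MonoidHom.mem_ker.mp hker, Units.val_one]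
  have h2 : ∀ χ : IrrCharacter G, (χ : G → ℂ) 1 = m →
      ∀ x ∈ derivedSeries G 2, (χ : G → ℂ) x = (χ : G → ℂ) 1 := by
    intro χ hχ
    obtain ⟨H, lam, e⟩ := hmon χ
    refine taketa_step 1 m χ hχ H lam e fun ψ a ha hψ => ?_
    rcases hcd ψ with e' | e' | e'
    · exact h1 ψ e'
    · rw [hψ, Nat.cast_inj] at e'; omega
    · rw [hψ, Nat.cast_inj] at e'; omega
  have h3 : ∀ χ : IrrCharacter G, (χ : G → ℂ) 1 = n →
      ∀ x ∈ derivedSeries G 3, (χ : G → ℂ) x = (χ : G → ℂ) 1 := by
    intro χ hχ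
    obtain ⟨H, lam, e⟩ := hmon χ
    refine taketa_step 2 n χ hχ H lam e fun ψ a ha hψ => ?_
    rcases hcd ψ with e' | e' | e'
    · exact fun x hx => h1 ψ e' x (derivedSeries_antitone G (by norm_num) hx)
    · exact h2 ψ e'
    · rw [hψ, Nat.cast_inj] at e'; omega
  refine eq_bot_iff.mpr fun x hx => Subgroup.mem_bot.mpr (eq_one_of_forall_irr fun χ => ?_)
  rcases hcd χ with e | e | e
  · exact h1 χ e x (derivedSeries_antitone G (by norm_num) hx)
  · exact h2 χ e x (derivedSeries_antitone G (by norm_num) hx)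
  · exact h3 χ e x hx

theorem derived_three : ∀ (N : ℕ) (G : Type u) [Group G] [Finite G], Nat.card G = N →
    ∀ m n : ℕ, (∀ χ : IrrCharacter G, (χ : G → ℂ) 1 = (1 : ℕ) ∨ (χ : G → ℂ) 1 = m ∨
      (χ : G → ℂ) 1 = n) → derivedSeries G 3 = ⊥ := by
  classical
  intro N
  induction N using Nat.strong_induction_on with
  | _ N ih =>
  intro G _ _ hN m n hcd
  haveI := Fintype.ofFinite G
  have htwo : ∀ d : ℕ, (∀ χ : IrrCharacter G, (χ : G → ℂ) 1 = (1 : ℕ) ∨ (χ : G → ℂ) 1 = d) →
      derivedSeries G 3 = ⊥ := fun d h => derived_three_of_two (two_degrees_derived h)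
  by_cases hocc : (∃ χ : IrrCharacter G, (χ : G → ℂ) 1 = m) ∧ (∃ χ : IrrCharacter G, (χ : G → ℂ) 1 = n)
  swap
  · rw [not_and_or] at hocc
    rcases hocc with h | h <;> push_neg at h
    · exact htwo n fun χ => (hcd χ).imp_right fun e => e.resolve_left (h χ)
    · exact htwo m fun χ => (hcd χ).imp_right fun e => e.resolve_right (h χ)
  obtain ⟨⟨χm, hχm⟩, χn, hχn⟩ := hocc
  have hpos : ∀ (χ : IrrCharacter G) (d : ℕ), (χ : G → ℂ) 1 = d → 0 < d := fun χ d hd =>
    Nat.pos_of_ne_zero fun h => irr_degree_ne_zero χ.2 (by rw [hd, h, Nat.cast_zero])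
  have hm0 := hpos χm m hχm
  have hn0 := hpos χn n hχn
  by_cases hmn : m = n
  · subst hmn
    exact htwo m fun χ => (hcd χ).imp_right fun e => e.elim id id
  by_cases hm1 : m = 1
  · subst hm1
    exact htwo n fun χ => (hcd χ).elim Or.inl id
  by_cases hn1 : n = 1
  · subst hn1
    exact htwo m fun χ => (hcd χ).elim Or.inl fun e => e.symm
  by_cases hcop : m.Coprime n
  · exact coprime_case (by omega) (by omega) hcop hcd
  obtain ⟨p, hp, hpm, hpn⟩ := Nat.Prime.not_coprime_iff_dvd.mp hcop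
  haveI := Fact.mk hp
  obtain ⟨H, hH, hHp, k, hk⟩ := Cfsg.Agent.S4456.result (G := G) p hp fun χ h1 => by
    rcases hcd χ with e | e | e
    · exact absurd (Extraspecial.charDegree_eq e) h1
    · rwa [Extraspecial.charDegree_eq e]
    · rwa [Extraspecial.charDegree_eq e]
  haveI := hH
  set m' := ordCompl[p] m with hm'
  set n' := ordCompl[p] n with hn'
  have hcdH : ∀ θ : IrrCharacter H, (θ : H → ℂ) 1 = (1 : ℕ) ∨ (θ : H → ℂ) 1 = m' ∨
      (θ : H → ℂ) 1 = n' := by
    intro θ
    obtain ⟨a, ha, ha0, hadvd⟩ := exists_degree_dvd_card θ.2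
    have h1 : indFun H (θ : H → ℂ) 1 ≠ 0 := by
      rw [indFun_one]
      exact mul_ne_zero (Nat.cast_ne_zero.mpr H.index_ne_zero_of_finite) (irr_degree_ne_zero θ.2)
    obtain ⟨w, hw⟩ := exists_multiplicities (isCharacter_indFun H (isCharacter_of_isIrr θ.2))
    obtain ⟨χ, hχ⟩ : ∃ χ, w χ ≠ 0 := by
      by_contra h'
      push_neg at h'
      refine h1 ?_
      rw [hw]; simp [h']
    have hcon : classInner (fun x : H => (χ : G → ℂ) x) (θ : H → ℂ) ≠ 0 := by
      rw [← frobenius_reciprocity' H _ (isClassFunction_of_isCharacter (isCharacter_of_isIrr χ.2)),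
        ← classInner_conj_symm, hw, classInner_sum_smul_irr]
      simpa using hχ
    obtain ⟨d, -, hd⟩ := exists_nat_degree_irr χ.2
    obtain ⟨e, -, he, ho, hde⟩ := exists_mul_eq_degree H χ.2 θ.2 hcon hd ha
    have hpa : ¬ p ∣ a := fun h => (hp.coprime_iff_not_dvd.mp hHp.symm) (h.trans hadvd)
    have hd0 : d ≠ 0 := (hpos χ d hd).ne'
    have ha' : a = ordCompl[p] d := by
      refine Nat.dvd_antisymm ?_ ?_
      · exact Nat.dvd_ordCompl_of_dvd_not_dvd ⟨e * (orbit H (θ : H → ℂ)).card, by rw [hde]; ring⟩ hpa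
      · have hc := Nat.coprime_ordCompl hp hd0
        have h1 : ordCompl[p] d ∣ e * (orbit H (θ : H → ℂ)).card * a := by
          refine (Nat.ordCompl_dvd d p).trans (dvd_of_eq ?_)
          rw [hde]; ring
        refine Nat.Coprime.dvd_of_dvd_mul_left (Nat.Coprime.mul_right ?_ ?_) h1
        · exact ((hc.symm).pow_right k).coprime_dvd_right (hk ▸ he)
        · exact ((hc.symm).pow_right k).coprime_dvd_right (hk ▸ ho)
    rcases hcd χ with e' | e' | e' <;> rw [hd, Nat.cast_inj] at e' <;> rw [e'] at ha'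
    · left
      rw [ha, ha']
      simp
    · right; left; rw [ha, ha']
    · right; right; rw [ha, ha']
  -- the quotient by the derived subgroup of the complement
  set H1 := ⁅H, H⁆ with hH1
  have hQ : ∀ β : IrrCharacter (G ⧸ H1), (β : G ⧸ H1 → ℂ) 1 = (1 : ℕ) ∨
      ((β : G ⧸ H1 → ℂ) 1 = m ∧ m' = 1) ∨ ((β : G ⧸ H1 → ℂ) 1 = n ∧ n' = 1) := by
    intro β
    obtain ⟨d, -, hd⟩ := exists_nat_degree_irr β.2
    have hAn : (H.map (QuotientGroup.mk' H1)).Normal :=
      hH.map _ (QuotientGroup.mk'_surjective H1)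
    have hdvd : d ∣ p ^ k := by
      refine (Extraspecial.ito β.2 (H.map (QuotientGroup.mk' H1)) ?_ hd).trans
        ((Subgroup.index_map_dvd _ (QuotientGroup.mk'_surjective H1)).trans (dvd_of_eq hk))
      rintro _ ⟨a, ha, rfl⟩ _ ⟨b, hb, rfl⟩
      rw [← commutatorElement_eq_one_iff_mul_comm, ← map_commutatorElement]
      exact (QuotientGroup.eq_one_iff _).mpr (Subgroup.commutator_mem_commutator ha hb)
    obtain ⟨j, -, hj⟩ := (Nat.dvd_prime_pow hp).mp hdvd
    let γ : IrrCharacter G :=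
      ⟨_, isIrrCharacter_comp (f := QuotientGroup.mk' H1) (QuotientGroup.mk'_surjective H1) β.2⟩
    have hγ : (γ : G → ℂ) 1 = d := by simpa [γ] using hd
    have hone : ordCompl[p] d = 1 := by
      rw [hj, hp.factorization_pow, Finsupp.single_eq_same, Nat.div_self (pow_pos hp.pos j)]
    rcases hcd γ with e | e | e <;> rw [hγ, Nat.cast_inj] at e
    · left; rw [hd, e]
    · right; left; exact ⟨by rw [hd, e], by rw [hm', ← e, hone]⟩
    · right; right; exact ⟨by rw [hd, e], by rw [hn', ← e, hone]⟩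
  have hmapQ : ∀ K : Subgroup G, K.map (QuotientGroup.mk' H1) = ⊥ → K ≤ H1 := fun K h => by
    rw [Subgroup.map_eq_bot_iff, QuotientGroup.ker_mk'] at h
    exact h
  have hcomm : commutator (G ⧸ H1) = (commutator G).map (QuotientGroup.mk' H1) := by
    rw [commutator_def, commutator_def, Subgroup.map_commutator, ← MonoidHom.range_eq_map,
      MonoidHom.range_eq_top.mpr (QuotientGroup.mk'_surjective H1)]
  have hHder : H1 = (commutator H).map H.subtype := (Subgroup.map_subtype_commutator H).symm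
  have hcase_one : ∀ d d' : ℕ, (∀ β : IrrCharacter (G ⧸ H1), (β : G ⧸ H1 → ℂ) 1 = (1 : ℕ) ∨
      (β : G ⧸ H1 → ℂ) 1 = d) → (∀ θ : IrrCharacter H, (θ : H → ℂ) 1 = (1 : ℕ) ∨
      (θ : H → ℂ) 1 = d') → derivedSeries G 3 = ⊥ := by
    intro d d' hQd hHd
    have hle : ⁅commutator G, commutator G⁆ ≤ H1 := hmapQ _ (by
      rw [Subgroup.map_commutator, ← hcomm]
      exact two_degrees_derived hQd)
    have h0 : ⁅H1, H1⁆ = ⊥ := by
      rw [hHder, ← Subgroup.map_commutator, two_degrees_derived hHd, Subgroup.map_bot]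
    rw [derived_three_eq, ← le_bot_iff, ← h0]
    exact Subgroup.commutator_mono hle hle
  by_cases hm1' : m' = 1
  · by_cases hn1' : n' = 1
    · -- all degrees are powers of p
      have hlin : ∀ θ : IrrCharacter H, (θ : H → ℂ) 1 = 1 := fun θ => by
        rcases hcdH θ with e | e | e <;> simp [e, hm1', hn1']
      have hHab := (Cfsg.Agent.S0187.result (G := H)).mpr hlin
      haveI : Group.IsNilpotent (G ⧸ H) :=
        (IsPGroup.of_card (n := k) (show Nat.card (G ⧸ H) = p ^ k from hk)).isNilpotent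
      have hmon : ∀ χ : IrrCharacter G, ∃ (K : Subgroup G) (lam : K →* ℂˣ),
          (χ : G → ℂ) = indFun K (fun h => (lam h : ℂ)) := fun χ =>
        CfsgLib.TwoDegrees.monomial_aux _ G H
          (fun a ha b hb => congrArg Subtype.val (hHab ⟨a, ha⟩ ⟨b, hb⟩)) inferInstance rfl _ χ.2
      rcases lt_or_gt_of_ne hmn with h | h
      · exact derived_three_monomial h hcd hmon
      · exact derived_three_monomial h (fun χ => (hcd χ).imp_right Or.symm) hmon
    · refine hcase_one m n' (fun β => ?_) fun θ => ?_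
      · rcases hQ β with e | ⟨e, -⟩ | ⟨-, e⟩
        · exact Or.inl e
        · exact Or.inr e
        · exact absurd e hn1'
      · rcases hcdH θ with e | e | e
        · exact Or.inl e
        · exact Or.inl (by rw [e, hm1'])
        · exact Or.inr e
  · by_cases hn1' : n' = 1
    · refine hcase_one n m' (fun β => ?_) fun θ => ?_
      · rcases hQ β with e | ⟨-, e⟩ | ⟨e, -⟩
        · exact Or.inl e
        · exact absurd e hm1'
        · exact Or.inr e
      · rcases hcdH θ with e | e | e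
        · exact Or.inl e
        · exact Or.inr e
        · exact Or.inl (by rw [e, hn1'])
    · have hQlin : ∀ β : IrrCharacter (G ⧸ H1), (β : G ⧸ H1 → ℂ) 1 = 1 := fun β => by
        rcases hQ β with e | ⟨-, e⟩ | ⟨-, e⟩
        · rw [e, Nat.cast_one]
        · exact absurd e hm1'
        · exact absurd e hn1'
      have hQab := (Cfsg.Agent.S0187.result (G := G ⧸ H1)).mpr hQlin
      have hle : commutator G ≤ H1 := hmapQ _ (by
        rw [← hcomm, ← le_bot_iff, commutator_def, Subgroup.commutator_le]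
        exact fun a _ b _ => Subgroup.mem_bot.mpr
          (commutatorElement_eq_one_iff_mul_comm.mpr (hQab a b)))
      have hHlt : Nat.card H < N := by
        rw [← hN]
        refine lt_of_le_of_ne (Subgroup.card_le_card_group H) fun e => ?_
        have htop := Subgroup.eq_top_of_card_eq H e
        obtain ⟨d, hd, -, hdvd⟩ := exists_degree_dvd_card χm.2
        rw [hχm, Nat.cast_inj] at hd
        subst hd
        exact (hp.coprime_iff_not_dvd.mp hHp.symm) (by rw [e]; exact hpm.trans hdvd)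
      have h3 := ih (Nat.card H) hHlt H rfl m' n' hcdH
      rw [derived_three_eq] at h3
      rw [derived_three_eq, ← le_bot_iff,
        ← Subgroup.map_bot H.subtype, ← h3, Subgroup.map_commutator, Subgroup.map_commutator,
        ← hHder]
      exact Subgroup.commutator_mono (Subgroup.commutator_mono hle hle)
        (Subgroup.commutator_mono hle hle)

end CfsgLib.ThreeDegrees
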