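import Cfsg.Agent.Lib.Char.AbelianQuotient
import Cfsg.Agent.Lib.Char.Counting
import Cfsg.Agent.Lib.Char.Kernel
import Cfsg.Agent.Lib.Char.Projective

/-!
# Counting constituents by degree, and closed sets of characters
-/

set_option autoImplicit false
set_option linter.style.haveILetI false
set_option linter.unusedSectionVars false

namespace CfsgLib.ThreeDegrees

open Cfsg CfsgLib.Char
open scoped ComplexConjugate CfsgLib.Char commutatorElement

variable {G : Type*} [Group G] [Fintype G]

/-- The complex conjugate. -/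
def cj (f : G → ℂ) : G → ℂ := fun g => conj (f g)

theorem cj_cj (f : G → ℂ) : cj (cj f) = f := by funext g; simp [cj]

theorem cj_mul (f g : G → ℂ) : cj (f * g) = cj f * cj g := by funext x; simp [cj]

theorem isIrr_cj {f : G → ℂ} (hf : IsIrrCharacter G f) : IsIrrCharacter G (cj f) :=
  isIrrCharacter_conj hf

theorem isCharacter_cj {f : G → ℂ} (hf : IsCharacter G f) : IsCharacter G (cj f) :=
  isCharacter_conj hf

theorem cj_one {f : G → ℂ} {d : ℕ} (h : f 1 = d) : cj f 1 = d := by simp [cj, h]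

theorem inner_mul_left (a b c : G → ℂ) : classInner (a * b) c = classInner a (c * cj b) := by
  simp only [classInner, Pi.mul_apply, cj, map_mul, Complex.conj_conj]
  congr 1
  exact Finset.sum_congr rfl fun x _ => by ring

theorem inner_cj (a b : G → ℂ) : classInner (cj a) (cj b) = conj (classInner a b) := by
  simp [classInner, cj, map_mul, map_sum]

theorem exists_inner {f : G → ℂ} (hf : IsCharacter G f) (ψ : IrrCharacter G) :
    ∃ k : ℕ, classInner f (ψ : G → ℂ) = k :=
  exists_nat_classInner hf (isCharacter_of_isIrr ψ.2)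

/-- The number of constituents of the given degree. -/
noncomputable def cnt (d : ℕ) (f : G → ℂ) : ℂ := by
  classical
  exact ∑ ψ ∈ Finset.univ.filter (fun ψ : IrrCharacter G => (ψ : G → ℂ) 1 = d),
    classInner f (ψ : G → ℂ)

theorem cnt_irr (d : ℕ) (α : IrrCharacter G) :
    cnt d (α : G → ℂ) = if (α : G → ℂ) 1 = d then 1 else 0 := by
  classical
  unfold cnt
  split_ifs with h
  · rw [Finset.sum_eq_single α (fun ψ _ hψ => classInner_irr_ne α.2 ψ.2 fun e => hψ (Subtype.ext e).symm)
      (fun h' => absurd (Finset.mem_filter.mpr ⟨Finset.mem_univ α, h⟩) h'), classInner_irr_self α.2]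
  · exact Finset.sum_eq_zero fun ψ hψ => classInner_irr_ne α.2 ψ.2 fun e =>
      h (by rw [e]; exact (Finset.mem_filter.mp hψ).2)

theorem cnt_irr' {d : ℕ} {f : G → ℂ} (hf : IsIrrCharacter G f) {e : ℕ} (he : f 1 = e) (hne : e ≠ d) :
    cnt d f = 0 := by
  have := cnt_irr d ⟨f, hf⟩
  rwa [if_neg (fun h => hne (Nat.cast_injective (R := ℂ) (he.symm.trans h)))] at this

theorem exists_cnt (d : ℕ) {f : G → ℂ} (hf : IsCharacter G f) : ∃ k : ℕ, cnt d f = k := by
  classical
  choose a ha using exists_inner hf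
  exact ⟨∑ ψ ∈ Finset.univ.filter (fun ψ : IrrCharacter G => (ψ : G → ℂ) 1 = d), a ψ, by
    simp [cnt, ha]⟩

theorem inner_eq_zero_of_cnt {d : ℕ} {f : G → ℂ} (hf : IsCharacter G f) (h : cnt d f = 0)
    (ψ : IrrCharacter G) (hψ : (ψ : G → ℂ) 1 = d) : classInner f (ψ : G → ℂ) = 0 := by
  classical
  choose a ha using exists_inner hf
  simp only [cnt, ha, ← Nat.cast_sum, Nat.cast_eq_zero, Finset.sum_eq_zero_iff] at h
  rw [ha, h ψ (Finset.mem_filter.mpr ⟨Finset.mem_univ _, hψ⟩), Nat.cast_zero]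

theorem cnt_eq_zero {d : ℕ} {f : G → ℂ}
    (h : ∀ ψ : IrrCharacter G, (ψ : G → ℂ) 1 = d → classInner f (ψ : G → ℂ) = 0) :
    cnt d f = 0 := by
  classical
  exact Finset.sum_eq_zero fun ψ hψ => h ψ (Finset.mem_filter.mp hψ).2

theorem cnt_smul (d : ℕ) (c : ℂ) (f : G → ℂ) : cnt d (c • f) = c * cnt d f := by
  classical
  simp [cnt, classInner_smul_left, Finset.mul_sum]

theorem cnt_sum {ι : Type*} (d : ℕ) (s : Finset ι) (f : ι → G → ℂ) :
    cnt d (∑ i ∈ s, f i) = ∑ i ∈ s, cnt d (f i) := by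
  classical
  simp only [cnt, classInner_sum_left]
  exact Finset.sum_comm

theorem cnt_mul (d : ℕ) {f : G → ℂ} (hf : IsCharacter G f) (g : G → ℂ) :
    cnt d (f * g) = ∑ ψ : IrrCharacter G, classInner f (ψ : G → ℂ) * cnt d ((ψ : G → ℂ) * g) := by
  classical
  conv_lhs => rw [classFunction_expansion (isClassFunction_of_isCharacter hf), Finset.sum_mul]
  rw [cnt_sum]
  exact Finset.sum_congr rfl fun ψ _ => by rw [smul_mul_assoc, cnt_smul]

theorem cnt_mul_right (d : ℕ) (f : G → ℂ) {g : G → ℂ} (hg : IsCharacter G g) :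
    cnt d (f * g) = ∑ ψ : IrrCharacter G, classInner g (ψ : G → ℂ) * cnt d (f * (ψ : G → ℂ)) := by
  rw [mul_comm f g, cnt_mul d hg]
  exact Finset.sum_congr rfl fun ψ _ => by rw [mul_comm f]

/-- If a product has no constituents of degree `d`, neither does the product with a constituent. -/
theorem cnt_mul_constituent {d : ℕ} {f g : G → ℂ} (hf : IsCharacter G f) (hg : IsCharacter G g)
    (h : cnt d (f * g) = 0) (ψ : IrrCharacter G) (hψ : classInner f (ψ : G → ℂ) ≠ 0) :
    cnt d ((ψ : G → ℂ) * g) = 0 := by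
  classical
  rw [cnt_mul d hf] at h
  choose a ha using exists_inner hf
  choose b hb using fun χ : IrrCharacter G =>
    exists_cnt d (isCharacter_mul (isCharacter_of_isIrr χ.2) hg)
  simp only [ha, hb, ← Nat.cast_mul, ← Nat.cast_sum, Nat.cast_eq_zero, Finset.sum_eq_zero_iff] at h
  rw [hb]
  rw [ha, Nat.cast_ne_zero] at hψ
  simpa [hψ] using h ψ (Finset.mem_univ _)

section ThreeValues

variable {m n : ℕ} (hm : 1 < m) (hn : m < n)
  (hcd : ∀ χ : IrrCharacter G, (χ : G → ℂ) 1 = (1 : ℕ) ∨ (χ : G → ℂ) 1 = m ∨ (χ : G → ℂ) 1 = n)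

include hm hn hcd

theorem degree_eq {f : G → ℂ} (hf : IsCharacter G f) :
    f 1 = cnt 1 f + m * cnt m f + n * cnt n f := by
  classical
  have h := congrFun (classFunction_expansion (isClassFunction_of_isCharacter hf)) 1
  simp only [Finset.sum_apply, Pi.smul_apply, smul_eq_mul] at h
  rw [h]
  simp only [cnt, Finset.sum_filter, Finset.mul_sum, ← Finset.sum_add_distrib]
  refine Finset.sum_congr rfl fun ψ _ => ?_
  have h1 : (1 : ℕ) ≠ m := hm.ne
  have h2 : (1 : ℕ) ≠ n := (hm.trans hn).ne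
  have h3 : m ≠ n := hn.ne
  have c1 : ((1 : ℕ) : ℂ) ≠ m := fun e => h1 (Nat.cast_injective e)
  have c2 : ((1 : ℕ) : ℂ) ≠ n := fun e => h2 (Nat.cast_injective e)
  have c3 : (m : ℂ) ≠ n := fun e => h3 (Nat.cast_injective e)
  rcases hcd ψ with e | e | e <;> rw [e] <;>
    simp only [c1, c2, c3, c1.symm, c2.symm, c3.symm, if_true, if_false] <;> push_cast <;> ring

end ThreeValues

section Linear

/-- Multiplication by a linear character permutes the irreducible characters. -/
noncomputable def twist (β : G →* ℂˣ) : IrrCharacter G ≃ IrrCharacter G where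
  toFun χ := ⟨fun g => (β g : ℂ) * (χ : G → ℂ) g, isIrrCharacter_linear_mul χ.2 β⟩
  invFun χ := ⟨fun g => (β⁻¹ g : ℂ) * (χ : G → ℂ) g, isIrrCharacter_linear_mul χ.2 β⁻¹⟩
  left_inv χ := Subtype.ext (funext fun g => by simp)
  right_inv χ := Subtype.ext (funext fun g => by simp)

theorem linear_mul_conj (β : G →* ℂˣ) (g : G) : (β g : ℂ) * conj (β g : ℂ) = 1 := by
  have h : ‖(β g : ℂ)‖ = 1 := Complex.norm_eq_one_of_pow_eq_one
    (n := orderOf g) (by rw [← Units.val_pow_eq_pow_val, ← map_pow, pow_orderOf_eq_one, map_one,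
      Units.val_one]) (orderOf_pos g).ne'
  rw [Complex.mul_conj, Complex.normSq_eq_norm_sq, h]
  simp

theorem cnt_linear_mul (d : ℕ) {l : G → ℂ} (hl : IsIrrCharacter G l) (hl1 : l 1 = (1 : ℕ))
    (f : G → ℂ) : cnt d (l * f) = cnt d f := by
  classical
  rw [Nat.cast_one] at hl1
  set β := linearHom (isCharacter_of_isIrr hl) hl1
  unfold cnt
  refine Finset.sum_equiv (twist β⁻¹) (fun χ => ?_) fun χ _ => ?_
  · simp [twist]
  · rw [mul_comm l f, inner_mul_left]
    congr 1
    funext g
    simp only [twist, Equiv.coe_fn_mk, Pi.mul_apply, cj]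
    rw [← linearHom_apply (isCharacter_of_isIrr hl) hl1 g, MonoidHom.inv_apply, Units.val_inv_eq_inv_val,
      eq_inv_of_mul_eq_one_right (linear_mul_conj β g)]
    ring

theorem linear_of_trivial_on_commutator {χ : G → ℂ} (hχ : IsIrrCharacter G χ)
    (h : ∀ g ∈ commutator G, χ g = χ 1) : χ 1 = 1 := by
  obtain ⟨d, ρ, hρ, rfl⟩ := hχ
  have h1 : ∀ g ∈ commutator G, ρ g = 1 := fun g hg => by
    refine (character_eq_finrank_iff ρ g).mp ?_
    rw [h g hg, Representation.char_one]
  have hsc : ∀ z ∈ (⊤ : Subgroup G), ∃ c : ℂ, ρ z = c • LinearMap.id := by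
    intro z _
    let T : Representation.IntertwiningMap ρ ρ := ⟨ρ z, fun g => by
      have e : ρ (z * g) = ρ (g * z) := by
        calc ρ (z * g) = ρ (⁅z, g⁆ * (g * z)) := by congr 1; simp [commutatorElement_def, mul_assoc]
          _ = ρ (g * z) := by
            rw [map_mul, h1 _ (Subgroup.commutator_mem_commutator (Subgroup.mem_top z)
              (Subgroup.mem_top g)), one_mul]
      rw [← Module.End.mul_eq_comp, ← Module.End.mul_eq_comp, ← map_mul, ← map_mul, e]⟩
    obtain ⟨c, hc⟩ :=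
      (Representation.IsIrreducible.algebraMap_intertwiningMap_bijective_of_isAlgClosed (ρ := ρ)).2 T
    refine ⟨c, ?_⟩
    refine Eq.trans (congrArg Representation.IntertwiningMap.toLinearMap hc).symm ?_
    ext v; simp [Algebra.algebraMap_eq_smul_one]
  have := degree_dvd_index_of_scalar ρ ⊤ hsc
  rw [Subgroup.index_top, Nat.dvd_one] at this
  rw [Representation.char_one, this, Nat.cast_one]

end Linear

/-- A set of irreducible characters closed under taking constituents of products contains every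
irreducible character trivial on the intersection of the kernels. -/
theorem mem_of_closed (A : Set (IrrCharacter G))
    (hone : (⟨fun _ => 1, isIrrCharacter_one⟩ : IrrCharacter G) ∈ A)
    (hmul : ∀ a ∈ A, ∀ b ∈ A, ∀ ψ : IrrCharacter G,
      classInner ((a : G → ℂ) * (b : G → ℂ)) (ψ : G → ℂ) ≠ 0 → ψ ∈ A)
    (γ : IrrCharacter G)
    (hγ : ∀ g, (∀ a ∈ A, (a : G → ℂ) g = (a : G → ℂ) 1) → (γ : G → ℂ) g = (γ : G → ℂ) 1) :
    γ ∈ A := by
  classical
  by_contra hγA
  let S := Finset.univ.filter (fun a : IrrCharacter G => a ∈ A)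
  -- products of members are supported on the set
  let V : (G → ℂ) → Prop := fun f => IsClassFunction G f ∧
    ∀ ψ : IrrCharacter G, ψ ∉ A → classInner f (ψ : G → ℂ) = 0
  have hVmul : ∀ f, V f → ∀ a ∈ A, ∀ ψ : IrrCharacter G, ψ ∉ A →
      classInner (f * (a : G → ℂ)) (ψ : G → ℂ) = 0 := by
    intro f hf a ha ψ hψ
    rw [classFunction_expansion hf.1, Finset.sum_mul, classInner_sum_left]
    refine Finset.sum_eq_zero fun χ _ => ?_
    rw [smul_mul_assoc, classInner_smul_left]
    by_cases hχ : χ ∈ A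
    · by_contra h
      exact hψ (hmul χ hχ a ha ψ (right_ne_zero_of_mul h))
    · rw [hf.2 χ hχ, zero_mul]
  -- the set of points where all members take their degree
  choose d hd0 hd using fun χ : IrrCharacter G => exists_nat_degree_irr χ.2
  have hkey : ∀ g : G, (∀ a ∈ A, (a : G → ℂ) g = (a : G → ℂ) 1) ↔
      (∑ a ∈ S, (a : G → ℂ) g) = ∑ a ∈ S, (a : G → ℂ) 1 := by
    intro g
    refine ⟨fun h => Finset.sum_congr rfl fun a ha => h a (Finset.mem_filter.mp ha).2, fun h a ha => ?_⟩
    have hre : ∀ b : IrrCharacter G, ((b : G → ℂ) g).re ≤ ((b : G → ℂ) 1).re := by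
      intro b
      obtain ⟨k, ρ, hρ, e⟩ := b.2
      rw [← e, Representation.char_one, Complex.natCast_re]
      exact (Complex.re_le_norm _).trans (norm_character_le ρ g)
    have hs : ∑ b ∈ S, ((b : G → ℂ) g).re = ∑ b ∈ S, ((b : G → ℂ) 1).re := by
      rw [← Complex.re_sum, h, Complex.re_sum]
    have := (Finset.sum_eq_sum_iff_of_le fun b _ => hre b).mp hs a
      (Finset.mem_filter.mpr ⟨Finset.mem_univ _, ha⟩)
    obtain ⟨k, ρ, hρ, e⟩ := a.2
    rw [← e, Representation.char_one, Complex.natCast_re] at this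
    have hn := norm_character_le ρ g
    have heq : ‖ρ.character g‖ = (Module.finrank ℂ (Fin k → ℂ) : ℝ) :=
      le_antisymm hn (this ▸ Complex.re_le_norm _)
    rw [← e, Representation.char_one]
    apply Complex.ext
    · rw [this, Complex.natCast_re]
    · have h2 := Complex.normSq_eq_norm_sq (ρ.character g)
      rw [heq, Complex.normSq_apply, this] at h2
      rw [Complex.natCast_im]
      nlinarith [h2]
  set Φ : G → ℂ := fun g => ∑ a ∈ S, (a : G → ℂ) g with hΦ
  set bad := (Finset.univ.image Φ).erase (Φ 1) with hbad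
  -- the indicator as a product
  have hVprod : ∀ T : Finset ℂ, V (fun g => ∏ v ∈ T, (Φ g - v)) := by
    intro T
    induction T using Finset.induction with
    | empty =>
      refine ⟨fun g h => by simp, fun ψ hψ => ?_⟩
      simp only [Finset.prod_empty]
      exact classInner_irr_ne isIrrCharacter_one ψ.2 fun e => hψ (by
        rwa [show ψ = ⟨fun _ => 1, isIrrCharacter_one⟩ from Subtype.ext e.symm])
    | insert v T hv ih =>
      have e : (fun g => ∏ w ∈ insert v T, (Φ g - w)) =
          (∑ a ∈ S, (fun g => ∏ w ∈ T, (Φ g - w)) * (a : G → ℂ)) -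
            v • (fun g => ∏ w ∈ T, (Φ g - w)) := by
        funext g
        simp only [Finset.prod_insert hv, Pi.sub_apply, Finset.sum_apply, Pi.mul_apply,
          Pi.smul_apply, smul_eq_mul, ← Finset.mul_sum, hΦ]
        ring
      refine ⟨fun g h => ?_, fun ψ hψ => ?_⟩
      · simp only [hΦ]
        refine Finset.prod_congr rfl fun w _ => ?_
        congr 1
        exact Finset.sum_congr rfl fun a _ => isClassFunction_of_isCharacter (isCharacter_of_isIrr a.2) g h
      · rw [e, sub_eq_add_neg, ← neg_smul]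
        have hadd : ∀ x y : G → ℂ, classInner (x + y) (ψ : G → ℂ) =
            classInner x (ψ : G → ℂ) + classInner y (ψ : G → ℂ) := by
          intro x y; simp [classInner, add_mul, Finset.sum_add_distrib, mul_add]
        rw [hadd, classInner_smul_left, ih.2 ψ hψ, mul_zero, add_zero, classInner_sum_left]
        exact Finset.sum_eq_zero fun a ha => hVmul _ ih a (Finset.mem_filter.mp ha).2 ψ hψ
  have hz := (hVprod bad).2 γ hγA
  have hsum : ∀ x : G, (∏ v ∈ bad, (Φ x - v)) * conj ((γ : G → ℂ) x) =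
      if Φ x = Φ 1 then (∏ v ∈ bad, (Φ 1 - v)) * (d γ : ℂ) else 0 := by
    intro x
    split_ifs with h
    · rw [h, hγ x ((hkey x).mpr h), hd, map_natCast]
    · rw [Finset.prod_eq_zero (i := Φ x) (Finset.mem_erase.mpr
        ⟨h, Finset.mem_image.mpr ⟨x, Finset.mem_univ _, rfl⟩⟩) (sub_self _), zero_mul]
  rw [classInner, Finset.sum_congr rfl fun x _ => hsum x, ← Finset.sum_filter, Finset.sum_const,
    nsmul_eq_mul] at hz
  have hne : ∏ v ∈ bad, (Φ 1 - v) ≠ 0 :=
    Finset.prod_ne_zero_iff.mpr fun v hv => sub_ne_zero.mpr (Finset.ne_of_mem_erase hv).symm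
  have hcard : 0 < (Finset.univ.filter fun x : G => Φ x = Φ 1).card :=
    Finset.card_pos.mpr ⟨1, Finset.mem_filter.mpr ⟨Finset.mem_univ _, rfl⟩⟩
  exact mul_ne_zero (inv_ne_zero (Nat.cast_ne_zero.mpr Nat.card_pos.ne'))
    (mul_ne_zero (Nat.cast_ne_zero.mpr hcard.ne')
      (mul_ne_zero hne (Nat.cast_ne_zero.mpr (hd0 γ).ne'))) hz

end CfsgLib.ThreeDegrees
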