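import Cfsg.Agent.Lib.Char.Kernel
import Mathlib.GroupTheory.Nilpotent

/-!
# Groups whose derived subgroup is abelian and below every non-trivial normal subgroup
-/

set_option autoImplicit false
set_option linter.style.haveILetI false

namespace CfsgLib.ThreeDegrees

open scoped commutatorElement

universe u

theorem structure_of_minimal {Q : Type u} [Group Q] [Finite Q]
    (hna : commutator Q ≠ ⊥) (hab : ∀ a ∈ commutator Q, ∀ b ∈ commutator Q, a * b = b * a)
    (hmin : ∀ M : Subgroup Q, M.Normal → M ≠ ⊥ → commutator Q ≤ M) :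
    ∃ q : ℕ, q.Prime ∧ (IsPGroup q Q ∨ (IsPGroup q (commutator Q) ∧
      q.Coprime (commutator Q).index ∧ 1 < (commutator Q).index ∧
      ∀ g, g ∉ commutator Q → ∀ m ∈ commutator Q, ∃ n ∈ commutator Q, ⁅g, n⁆ = m)) := by
  classical
  set N := commutator Q with hN
  haveI hNn : N.Normal := inferInstance
  have hconj : ∀ a b : Q, ⁅a, b⁆ ∈ N := fun a b =>
    Subgroup.commutator_mem_commutator (Subgroup.mem_top a) (Subgroup.mem_top b)
  -- the exponent of the derived subgroup is a prime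
  obtain ⟨q, hq, hqN⟩ := Nat.exists_prime_and_dvd (fun e => hna (Subgroup.card_eq_one.mp e))
  haveI := Fact.mk hq
  obtain ⟨⟨x, hxN⟩, hx⟩ := exists_prime_orderOf_dvd_card' (G := N) q hqN
  have hpow : ∀ y ∈ N, y ^ q = 1 := by
    let T : Subgroup Q :=
      { carrier := {y | y ∈ N ∧ y ^ q = 1}
        one_mem' := ⟨N.one_mem, one_pow q⟩
        mul_mem' := fun {a b} ha hb => ⟨N.mul_mem ha.1 hb.1, by
          rw [Commute.mul_pow (hab a ha.1 b hb.1), ha.2, hb.2, one_mul]⟩
        inv_mem' := fun {a} ha => ⟨N.inv_mem ha.1, by rw [inv_pow, ha.2, inv_one]⟩ }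
    haveI hT : T.Normal := ⟨fun y hy g => ⟨hNn.conj_mem y hy.1 g, by
      rw [conj_pow, hy.2, mul_one, mul_inv_cancel]⟩⟩
    have hxT : x ∈ T := ⟨hxN, by
      have := pow_orderOf_eq_one (⟨x, hxN⟩ : N)
      rw [hx] at this
      simpa using congrArg Subtype.val this⟩
    have hTne : T ≠ ⊥ := fun e => by
      rw [e, Subgroup.mem_bot] at hxT
      subst hxT
      rw [Subgroup.orderOf_mk, orderOf_one] at hx
      exact hq.one_lt.ne hx
    exact fun y hy => (hmin T hT hTne hy).2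
  have hNq : IsPGroup q N := fun y => ⟨1, Subtype.ext (by simpa using hpow y y.2)⟩
  have hxcoe : x ≠ 1 := fun e => by
    subst e
    rw [Subgroup.orderOf_mk, orderOf_one] at hx
    exact hq.one_lt.ne hx
  set C := Subgroup.centralizer (N : Set Q) with hC
  by_cases hCtop : C = ⊤
  · refine ⟨q, hq, Or.inl (IsPGroup.of_card (n := (Nat.card Q).factorization q) ?_)⟩
    suffices H : ∀ r : ℕ, r.Prime → r ∣ Nat.card Q → r = q by
      exact Nat.eq_prime_pow_of_unique_prime_dvd Nat.card_pos.ne' (fun {d} hd hdd => H d hd hdd) ▸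
        by rw [hq.factorization_pow, Finsupp.single_eq_same]
    intro r hr hrd
    haveI := Fact.mk hr
    haveI : Group.IsNilpotent Q := by
      letI : CommGroup (Abelianization Q) := inferInstance
      refine Subgroup.isNilpotent_of_ker_le_center (Abelianization.of (G := Q)) ?_
      rw [Abelianization.ker_of]
      exact fun n hn => Subgroup.mem_center_iff.mpr fun g => by
        have hg : g ∈ C := by rw [hCtop]; exact Subgroup.mem_top g
        exact (Subgroup.mem_centralizer_iff.mp hg n hn).symm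
    obtain ⟨R⟩ : Nonempty (Sylow r Q) := inferInstance
    have hxR : x ∈ (R : Subgroup Q) :=
      hmin _ inferInstance (R.ne_bot_of_dvd_card hrd) hxN
    obtain ⟨k, hk⟩ := R.2 ⟨x, hxR⟩
    have hox : orderOf x = q := by rwa [Subgroup.orderOf_mk] at hx
    have hdvd := orderOf_dvd_of_pow_eq_one (congrArg Subtype.val hk : x ^ r ^ k = 1)
    rw [hox] at hdvd
    exact ((Nat.prime_dvd_prime_iff_eq hq hr).mp (hq.dvd_of_dvd_pow hdvd)).symm
  -- fixed-point-free action
  have hfix : ∀ g, g ∉ C → ∀ n ∈ N, g * n = n * g → n = 1 := by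
    intro g hg
    let D : Subgroup Q := N ⊓ Subgroup.centralizer ({g} : Set Q)
    haveI hD : D.Normal := ⟨fun n hn h => by
      obtain ⟨hnN, hng⟩ := Subgroup.mem_inf.mp hn
      rw [Subgroup.mem_centralizer_singleton_iff] at hng
      refine Subgroup.mem_inf.mpr ⟨hNn.conj_mem n hnN h, ?_⟩
      rw [Subgroup.mem_centralizer_singleton_iff]
      have hm : ⁅h⁻¹, g⁆ * n = n * ⁅h⁻¹, g⁆ := hab _ (hconj _ _) _ hnN
      have e1 : h⁻¹ * g * h = ⁅h⁻¹, g⁆ * g := by simp [commutatorElement_def, mul_assoc]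
      calc h * n * h⁻¹ * g = h * (n * (h⁻¹ * g * h)) * h⁻¹ := by group
        _ = h * ((h⁻¹ * g * h) * n) * h⁻¹ := by
          have e2 : n * (⁅h⁻¹, g⁆ * g) = ⁅h⁻¹, g⁆ * g * n := by
            rw [← mul_assoc, ← hm, mul_assoc _ n g, hng, ← mul_assoc]
          rw [e1, e2]
        _ = g * (h * n * h⁻¹) := by group⟩
    intro n hn hgn
    by_contra hn1
    have hnD : n ∈ D := Subgroup.mem_inf.mpr ⟨hn, Subgroup.mem_centralizer_singleton_iff.mpr hgn.symm⟩
    have hle := hmin D hD fun e => hn1 (Subgroup.mem_bot.mp (e ▸ hnD))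
    exact hg (Subgroup.mem_centralizer_iff.mpr fun m hm => by
      have := (Subgroup.mem_inf.mp (hle hm)).2
      rw [Subgroup.mem_centralizer_singleton_iff] at this
      exact this)
  have hsurj : ∀ g, g ∉ C → ∀ m ∈ N, ∃ n ∈ N, ⁅g, n⁆ = m := by
    intro g hg
    let φ : N → N := fun n => ⟨⁅g, (n : Q)⁆, hconj _ _⟩
    have hinj : Function.Injective φ := by
      intro a b hab'
      have h0 : ⁅g, (a : Q)⁆ = ⁅g, (b : Q)⁆ := congrArg Subtype.val hab'
      have h1 : g * ((a : Q)⁻¹ * b) = ((a : Q)⁻¹ * b) * g := by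
        have hbc := hab _ (N.inv_mem a.2) _ b.2
        rw [commutatorElement_def, commutatorElement_def] at h0
        have h2 : g * (a : Q) * g⁻¹ = g * (b : Q) * g⁻¹ * ((b : Q)⁻¹ * a) := by
          calc g * (a : Q) * g⁻¹ = (g * (a : Q) * g⁻¹ * (a : Q)⁻¹) * a := by group
            _ = g * (b : Q) * g⁻¹ * ((b : Q)⁻¹ * a) := by rw [h0]; group
        have h3 : (a : Q)⁻¹ * b = (b : Q) * (a : Q)⁻¹ := hbc
        calc g * ((a : Q)⁻¹ * b) = (g * (a : Q) * g⁻¹)⁻¹ * (g * (b : Q) * g⁻¹) * g := by group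
          _ = ((a : Q)⁻¹ * b) * g := by rw [h2]; group
      have := hfix g hg _ (N.mul_mem (N.inv_mem a.2) b.2) h1
      exact Subtype.ext (inv_mul_eq_one.mp this)
    intro m hm
    obtain ⟨n, hn⟩ := (Finite.injective_iff_surjective.mp hinj) ⟨m, hm⟩
    exact ⟨n, n.2, congrArg Subtype.val hn⟩
  obtain ⟨g₀, hg₀⟩ : ∃ g, g ∉ C := by
    by_contra h'
    push_neg at h'
    exact hCtop ((Subgroup.eq_top_iff' C).mpr h')
  have hCN : ∀ c ∈ C, c ∈ N := by
    intro c hc
    rw [hC, Subgroup.mem_centralizer_iff] at hc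
    obtain ⟨n, hn, hnc⟩ := hsurj g₀ hg₀ ⁅g₀, c⁆ (hconj _ _)
    set d := n⁻¹ * c with hd
    have hdC : ∀ m ∈ N, m * d = d * m := fun m hm => by
      rw [hd, ← mul_assoc, hab m hm _ (N.inv_mem hn), mul_assoc, hc m hm, mul_assoc]
    have hdg : g₀ * d = d * g₀ := by
      rw [commutatorElement_def, commutatorElement_def] at hnc
      have h2 : g₀ * c * g₀⁻¹ = g₀ * n * g₀⁻¹ * n⁻¹ * c := by rw [hnc]; group
      calc g₀ * d = (g₀ * n * g₀⁻¹)⁻¹ * (g₀ * c * g₀⁻¹) * g₀ := by rw [hd]; group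
        _ = d * g₀ := by rw [h2, hd]; group
    have hdZ : d ∈ Subgroup.center Q := Subgroup.mem_center_iff.mpr fun h => by
      refine commutatorElement_eq_one_iff_mul_comm.mp (hfix g₀ hg₀ _ (hconj h d) ?_)
      have hm := hdC _ (hconj h⁻¹ g₀)
      have e1 : g₀ * h = h * ⁅h⁻¹, g₀⁆ * g₀ := by simp [commutatorElement_def, mul_assoc]
      have e2 : g₀ * h * d * h⁻¹ = h * d * h⁻¹ * g₀ := by
        calc g₀ * h * d * h⁻¹ = h * ⁅h⁻¹, g₀⁆ * (g₀ * d) * h⁻¹ := by rw [e1]; group
          _ = h * (⁅h⁻¹, g₀⁆ * d) * g₀ * h⁻¹ := by rw [hdg]; group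
          _ = h * d * h⁻¹ * (g₀ * h) * h⁻¹ := by rw [hm, e1]; group
          _ = h * d * h⁻¹ * g₀ := by group
      calc g₀ * ⁅h, d⁆ = g₀ * h * d * h⁻¹ * d⁻¹ := by rw [commutatorElement_def]; group
        _ = h * d * h⁻¹ * (g₀ * d⁻¹) := by rw [e2]; group
        _ = ⁅h, d⁆ * g₀ := by
          rw [(Commute.inv_right (hdg : Commute g₀ d)).eq, commutatorElement_def]; group
    have hZ : Subgroup.center Q = ⊥ := by
      by_contra hne
      exact hCtop ((Subgroup.eq_top_iff' C).mpr fun g => Subgroup.mem_centralizer_iff.mpr fun m hm =>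
        (Subgroup.mem_center_iff.mp (hmin _ inferInstance hne hm) g).symm)
    rw [hZ, Subgroup.mem_bot, hd, inv_mul_eq_one] at hdZ
    exact hdZ ▸ hn
  refine ⟨q, hq, Or.inr ⟨hNq, ?_, ?_, fun g hg => hsurj g fun hgC => hg (hCN g hgC)⟩⟩
  · rw [hq.coprime_iff_not_dvd]
    intro hdvd
    obtain ⟨S⟩ : Nonempty (Sylow q Q) := inferInstance
    have hNS : N ≤ (S : Subgroup Q) := hNq.le_sylow_of_normal S
    have hne : (N.subgroupOf (S : Subgroup Q)) ≠ ⊥ := fun e => hna (by
      have := Subgroup.subgroupOf_map_subtype N (S : Subgroup Q)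
      rw [e, Subgroup.map_bot, inf_eq_left.mpr hNS] at this
      exact this.symm)
    obtain ⟨z, hzN, hzc, hz⟩ := CfsgLib.Char.exists_central_of_normal S.2 (N.subgroupOf (S : Subgroup Q)) hne
    have hSN : ¬ (S : Subgroup Q) ≤ N := fun hle => by
      have := Subgroup.index_dvd_of_le hle
      exact S.not_dvd_index (hdvd.trans this)
    obtain ⟨g, hgS, hgN⟩ := Set.not_subset.mp hSN
    have h1 := hfix g (fun hgC => hgN (hCN g hgC)) z (Subgroup.mem_subgroupOf.mp hzN)
      (congrArg Subtype.val (Subgroup.mem_center_iff.mp hzc ⟨g, hgS⟩))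
    rw [← Subgroup.orderOf_coe, h1, orderOf_one] at hz
    exact hq.one_lt.ne hz
  · rw [Nat.one_lt_iff_ne_zero_and_ne_one]
    refine ⟨Subgroup.index_ne_zero_of_finite, fun h1 => hg₀ ?_⟩
    exact Subgroup.mem_centralizer_iff.mpr fun m hm =>
      hab m hm g₀ (Subgroup.index_eq_one.mp h1 ▸ Subgroup.mem_top g₀)

end CfsgLib.ThreeDegrees
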