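import Cfsg.Agent.Lib.ThreeDegrees.Core
import Cfsg.Agent.Lib.ThreeDegrees.Structure
import Cfsg.Agent.Lib.PrimeDegrees.Basic
import Cfsg.Agent.S0187

/-!
# Three coprime degrees
-/

set_option autoImplicit false
set_option linter.style.haveILetI false
set_option linter.unusedSectionVars false

namespace CfsgLib.ThreeDegrees

open Cfsg CfsgLib.Char CfsgLib.PrimeDegrees
open scoped ComplexConjugate CfsgLib.Char commutatorElement

universe u

variable {G : Type u} [Group G] [Finite G]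

theorem derived_three_eq : derivedSeries G 3 =
    ⁅⁅commutator G, commutator G⁆, ⁅commutator G, commutator G⁆⁆ := by
  simp only [derivedSeries_succ, derivedSeries_zero, ← commutator_def]

theorem derived_three_of_two (h : ⁅commutator G, commutator G⁆ = ⊥) : derivedSeries G 3 = ⊥ := by
  rw [derived_three_eq, h, Subgroup.commutator_bot_left]

/-- Linear characters trivial on a normal subgroup may be cancelled. -/
theorem hom_cancel (R : Subgroup G) [R.Normal] {ψ : G → ℂ} (hψ : IsIrrCharacter G ψ)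
    (hres : IsIrrCharacter R (fun r : R => ψ r)) (μ₁ μ₂ : G →* ℂˣ) (h1 : ∀ r ∈ R, μ₁ r = 1)
    (h2 : ∀ r ∈ R, μ₂ r = 1) (h : ∀ x, (μ₁ x : ℂ) * ψ x = (μ₂ x : ℂ) * ψ x) : μ₁ = μ₂ := by
  classical
  haveI := Fintype.ofFinite G
  have hcl := isClassFunction_of_isCharacter (isCharacter_of_isIrr hψ)
  have hone : IsIrrCharacter R (fun _ : R => (1 : ℂ)) := isIrrCharacter_one
  have hg := gallagher R (φ := fun _ => 1) (θ := fun r : R => ψ r) hone (fun g => rfl)
    (fun g => conjBy_restrict R hcl g)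
    (by rw [show (fun _ : R => (1 : ℂ)) * (fun r : R => ψ r) = fun r : R => ψ r from
      funext fun r => one_mul _]; exact hres) hψ (fun r => rfl)
  have hmem : ∀ μ : G →* ℂˣ, (∀ r ∈ R, μ r = 1) → IsIrrCharacter G (fun g => (μ g : ℂ)) ∧
      classInner (indFun R (fun _ : R => (1 : ℂ))) (fun g => (μ g : ℂ)) ≠ 0 := by
    intro μ hμ
    refine ⟨isIrrCharacter_monoidHom μ, ?_⟩
    rw [← classInner_conj_symm, frobenius_reciprocity' R _
      (isClassFunction_of_isCharacter (isCharacter_monoidHom μ))]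
    have e : (fun r : R => (μ (r : G) : ℂ)) = fun _ => (1 : ℂ) :=
      funext fun r => by rw [hμ r r.2, Units.val_one]
    rw [e, classInner_irr_self hone, map_one]
    exact one_ne_zero
  have := hg.injOn (hmem μ₁ h1) (hmem μ₂ h2) (funext h)
  exact MonoidHom.ext fun g => Units.ext (congrFun this g)

variable (R : Subgroup G) [hRn : R.Normal]

/-- A degree obtained from the Frobenius quotient. -/
theorem exists_induced_degree (q : ℕ) [Fact q.Prime]
    (hNq : IsPGroup q (commutator (G ⧸ R))) (hne : commutator (G ⧸ R) ≠ ⊥)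
    (hab : ∀ a ∈ commutator (G ⧸ R), ∀ b ∈ commutator (G ⧸ R), a * b = b * a)
    (hsurj : ∀ g, g ∉ commutator (G ⧸ R) → ∀ m ∈ commutator (G ⧸ R),
      ∃ n ∈ commutator (G ⧸ R), ⁅g, n⁆ = m) :
    ∀ (ψ : IrrCharacter ((commutator (G ⧸ R)).comap (QuotientGroup.mk' R))) (a : ℕ),
    (ψ : ↥((commutator (G ⧸ R)).comap (QuotientGroup.mk' R)) → ℂ) 1 = a → a.Coprime q →
    ∃ χ : IrrCharacter G, (χ : G → ℂ) 1 = ((commutator (G ⧸ R)).index * a : ℕ) := by
  classical
  haveI := Fintype.ofFinite G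
  set N := commutator (G ⧸ R)
  set N₀ : Subgroup G := N.comap (QuotientGroup.mk' R) with hN₀
  have hRle : R ≤ N₀ := fun r hr => by
    rw [hN₀, Subgroup.mem_comap, QuotientGroup.mk'_apply, (QuotientGroup.eq_one_iff r).mpr hr]
    exact one_mem N
  have hidx : N₀.index = N.index :=
    Subgroup.index_comap_of_surjective N (QuotientGroup.mk'_surjective R)
  intro ψ a ha hqa
  set R' := R.subgroupOf N₀
  haveI : R'.Normal := Subgroup.normal_subgroupOf
  obtain ⟨k, hk⟩ := hNq.exists_card_eq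
  have hR' : R'.index = q ^ k := by
    have h1 : R.relIndex N₀ * N₀.index = R.index := Subgroup.relIndex_mul_index hRle
    have h2 : Nat.card N * N.index = R.index := N.card_mul_index
    rw [hidx] at h1
    rw [← hk]
    exact Nat.eq_of_mul_eq_mul_right (Nat.pos_of_ne_zero Subgroup.index_ne_zero_of_finite)
      (h1.trans h2.symm)
  have hres : IsIrrCharacter R' (fun r : R' => (ψ : N₀ → ℂ) r) :=
    restrict_irr_of_coprime R' ψ.2 ha (by rw [hR']; exact hqa.pow_right k)
  -- a linear character of the kernel quotient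
  haveI : IsMulCommutative N := ⟨⟨fun a b => Subtype.ext (hab a a.2 b b.2)⟩⟩
  letI : CommGroup N := { mul_comm := fun a b => Subtype.ext (hab a a.2 b b.2) }
  obtain ⟨y, hy⟩ : ∃ y : N, y ≠ 1 := by
    haveI : Nontrivial N := (Subgroup.nontrivial_iff_ne_bot _).mpr hne
    exact exists_ne 1
  obtain ⟨φ, hφ⟩ := CommGroup.exists_apply_ne_one_of_hasEnoughRootsOfUnity N ℂ hy
  set lam : N₀ →* ℂˣ := φ.comp ((QuotientGroup.mk' R).subgroupComap N) with hlam
  have hlamR : ∀ r ∈ R', lam r = 1 := by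
    intro r hr
    have : (QuotientGroup.mk' R).subgroupComap N r = 1 :=
      Subtype.ext ((QuotientGroup.eq_one_iff (r : G)).mpr hr)
    rw [hlam, MonoidHom.comp_apply, this, map_one]
  have hlam1 : lam ≠ 1 := by
    intro e
    obtain ⟨x, hx⟩ := QuotientGroup.mk'_surjective R (y : G ⧸ R)
    have hxN : x ∈ N₀ := by rw [hN₀, Subgroup.mem_comap, hx]; exact y.2
    have h1 := DFunLike.congr_fun e (⟨x, hxN⟩ : N₀)
    rw [hlam, MonoidHom.comp_apply, MonoidHom.one_apply,
      show (QuotientGroup.mk' R).subgroupComap N ⟨x, hxN⟩ = y from Subtype.ext hx] at h1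
    exact hφ h1
  have hconjR : ∀ (g : G) (μ : N₀ →* ℂˣ), (∀ r ∈ R', μ r = 1) →
      ∀ r ∈ R', μ ((MulAut.conjNormal g : MulAut N₀) r) = 1 := by
    intro g μ hμ r hr
    refine hμ _ ?_
    rw [Subgroup.mem_subgroupOf, MulAut.conjNormal_apply]
    exact hRn.conj_mem _ hr g
  have hfixhom : ∀ g, g ∉ N₀ → ∀ μ : N₀ →* ℂˣ, (∀ r ∈ R', μ r = 1) →
      (∀ x, μ ((MulAut.conjNormal g : MulAut N₀) x) = μ x) → μ = 1 := by
    intro g hg μ hμ hinv
    refine MonoidHom.ext fun x => ?_
    obtain ⟨z, hz, hzx⟩ := hsurj (QuotientGroup.mk' R g) (fun h => hg h) _ x.2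
    obtain ⟨z₀, rfl⟩ := QuotientGroup.mk'_surjective R z
    set w : N₀ := (MulAut.conjNormal g : MulAut N₀) ⟨z₀, hz⟩ * (⟨z₀, hz⟩ : N₀)⁻¹ with hw
    have hwv : (w : G) = ⁅g, z₀⁆ := by
      simp [hw, MulAut.conjNormal_apply, commutatorElement_def]
    have hmem : w⁻¹ * x ∈ R' := by
      rw [Subgroup.mem_subgroupOf, Subgroup.coe_mul, Subgroup.coe_inv, hwv,
        ← QuotientGroup.eq]
      rw [← map_commutatorElement] at hzx
      exact hzx
    have h1 := hμ _ hmem
    rw [map_mul, map_inv, inv_mul_eq_one] at h1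
    rw [← h1, hw, map_mul, map_inv, hinv, mul_inv_cancel, MonoidHom.one_apply]
  have hfix : ∀ (g : G) (f : N₀ → ℂ), g ∈ inertia N₀ f →
      ∀ x, f ((MulAut.conjNormal g : MulAut N₀) x) = f x := fun g f hg x => by
    have := congrFun ((mem_inertia N₀).mp hg) x
    rwa [conjBy_eq_comp] at this
  -- either the character or its twist has trivial inertia group
  obtain ⟨θ, hθ, hθ1, hθin⟩ : ∃ θ : N₀ → ℂ, IsIrrCharacter N₀ θ ∧ θ 1 = a ∧ inertia N₀ θ = N₀ := by
    by_contra h
    push_neg at h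
    have hout : ∀ θ : N₀ → ℂ, IsIrrCharacter N₀ θ → θ 1 = a → ∃ g, g ∉ N₀ ∧ g ∈ inertia N₀ θ := by
      intro θ hθ hθ1
      obtain ⟨g, hgT, hgN⟩ := SetLike.exists_of_lt (lt_of_le_of_ne
        (le_inertia N₀ (isClassFunction_of_isCharacter (isCharacter_of_isIrr hθ)))
        (h θ hθ hθ1).symm)
      exact ⟨g, hgN, hgT⟩
    obtain ⟨g, hgN, hg⟩ := hout _ ψ.2 ha
    obtain ⟨g', hg'N, hg'⟩ := hout _ (isIrrCharacter_linear_mul ψ.2 lam) (by simp [ha])
    set cg := (MulAut.conjNormal g : MulAut N₀)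
    set cg' := (MulAut.conjNormal g' : MulAut N₀)
    set μ : N₀ →* ℂˣ := lam * (lam.comp cg'.toMonoidHom)⁻¹ with hμdef
    have hμv : ∀ x, μ x = lam x * (lam (cg' x))⁻¹ := fun x => rfl
    have hμR : ∀ r ∈ R', μ r = 1 := fun r hr => by
      rw [hμv, hlamR r hr, hconjR g' lam hlamR r hr, inv_one, mul_one]
    have hμψ : ∀ x, (ψ : N₀ → ℂ) (cg' x) = (μ x : ℂ) * (ψ : N₀ → ℂ) x := fun x => by
      have h1 : (lam (cg' x) : ℂ) * (ψ : N₀ → ℂ) (cg' x) = (lam x : ℂ) * (ψ : N₀ → ℂ) x :=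
        hfix g' _ hg' x
      rw [hμv, Units.val_mul, mul_right_comm, ← h1, Units.val_inv_eq_inv_val, mul_right_comm,
        mul_inv_cancel₀ (Units.ne_zero _), one_mul]
    have hμg : ∀ x, (μ (cg x) : ℂ) * (ψ : N₀ → ℂ) x = (μ x : ℂ) * (ψ : N₀ → ℂ) x := by
      intro x
      have hk : ⁅g', g⁆ ∈ N₀ := by
        rw [hN₀, Subgroup.mem_comap, map_commutatorElement]
        exact Subgroup.commutator_mem_commutator (Subgroup.mem_top _) (Subgroup.mem_top _)
      have e : cg' (cg x) = (⟨_, hk⟩ : N₀) * cg (cg' x) * (⟨_, hk⟩ : N₀)⁻¹ := by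
        ext
        simp only [cg, cg', Subgroup.coe_mul, Subgroup.coe_inv, MulAut.conjNormal_apply,
          commutatorElement_def]
        group
      calc (μ (cg x) : ℂ) * (ψ : N₀ → ℂ) x = (μ (cg x) : ℂ) * (ψ : N₀ → ℂ) (cg x) := by
            rw [hfix g _ hg x]
        _ = (ψ : N₀ → ℂ) (cg' (cg x)) := (hμψ _).symm
        _ = (ψ : N₀ → ℂ) (cg (cg' x)) := by
            rw [e, isClassFunction_of_isCharacter (isCharacter_of_isIrr ψ.2)]
        _ = (ψ : N₀ → ℂ) (cg' x) := hfix g _ hg _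
        _ = (μ x : ℂ) * (ψ : N₀ → ℂ) x := hμψ x
    have hμeq := hom_cancel R' ψ.2 hres (μ.comp cg.toMonoidHom) μ
      (fun r hr => hconjR g μ hμR r hr) hμR hμg
    have hμ1 := hfixhom g hgN μ hμR (fun x => DFunLike.congr_fun hμeq x)
    refine hlam1 (hfixhom g' hg'N lam hlamR fun x => ?_)
    have := DFunLike.congr_fun hμ1 x
    rw [hμv, MonoidHom.one_apply, mul_inv_eq_one] at this
    exact this.symm
  have hirr : IsIrrCharacter G (indFun N₀ θ) := by
    refine isIrr_of_norm_one (isCharacter_indFun N₀ (isCharacter_of_isIrr hθ)) ?_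
    rw [classInner_indFun_indFun N₀ hθ hθ, if_pos (self_mem_orbit N₀ _), hθin,
      div_self (Nat.cast_ne_zero.mpr Nat.card_pos.ne')]
  exact ⟨⟨_, hirr⟩, by show indFun N₀ θ 1 = _; rw [indFun_one, hθ1, hidx]; push_cast; rfl⟩

theorem frobenius_case {m n : ℕ} (hm : 1 < m) (hn : 1 < n) (hcop : m.Coprime n)
    (hcd : ∀ χ : IrrCharacter G, (χ : G → ℂ) 1 = (1 : ℕ) ∨ (χ : G → ℂ) 1 = m ∨ (χ : G → ℂ) 1 = n)
    (q : ℕ) [Fact q.Prime] (hNq : IsPGroup q (commutator (G ⧸ R)))
    (hne : commutator (G ⧸ R) ≠ ⊥)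
    (hab : ∀ a ∈ commutator (G ⧸ R), ∀ b ∈ commutator (G ⧸ R), a * b = b * a)
    (hsurj : ∀ g, g ∉ commutator (G ⧸ R) → ∀ m ∈ commutator (G ⧸ R),
      ∃ n ∈ commutator (G ⧸ R), ⁅g, n⁆ = m)
    (hqf : q.Coprime (commutator (G ⧸ R)).index) (hf : (commutator (G ⧸ R)).index = m) :
    derivedSeries G 3 = ⊥ := by
  classical
  haveI := Fintype.ofFinite G
  set N₀ : Subgroup G := (commutator (G ⧸ R)).comap (QuotientGroup.mk' R) with hN₀
  have hidx : N₀.index = m :=
    (Subgroup.index_comap_of_surjective _ (QuotientGroup.mk'_surjective R)).trans hf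
  have key : ∀ ψ : IrrCharacter N₀, ∀ a : ℕ, (ψ : N₀ → ℂ) 1 = a → a.Coprime q → a = 1 := by
    intro ψ a ha hqa
    obtain ⟨χ, hχ⟩ := exists_induced_degree R q hNq hne hab hsurj ψ a ha hqa
    rw [hf] at hχ
    rcases hcd χ with e | e | e <;> rw [hχ, Nat.cast_inj] at e
    · exact Nat.eq_one_of_mul_eq_one_left e
    · exact (Nat.mul_eq_left (by omega)).mp e
    · have := Nat.Coprime.eq_one_of_dvd hcop ⟨a, e.symm⟩
      omega
  have hcdN : ∀ ψ : IrrCharacter N₀, (ψ : N₀ → ℂ) 1 = (1 : ℕ) ∨ (ψ : N₀ → ℂ) 1 = n := by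
    intro ψ
    obtain ⟨a, -, ha⟩ := exists_nat_degree_irr ψ.2
    have h1 : indFun N₀ (ψ : N₀ → ℂ) 1 ≠ 0 := by
      rw [indFun_one]
      exact mul_ne_zero (Nat.cast_ne_zero.mpr N₀.index_ne_zero_of_finite) (irr_degree_ne_zero ψ.2)
    obtain ⟨w, hw⟩ := exists_multiplicities (isCharacter_indFun N₀ (isCharacter_of_isIrr ψ.2))
    obtain ⟨χ, hχ⟩ : ∃ χ, w χ ≠ 0 := by
      by_contra h'
      push_neg at h'
      refine h1 ?_
      rw [hw]; simp [h']
    have hcon : classInner (fun x : N₀ => (χ : G → ℂ) x) (ψ : N₀ → ℂ) ≠ 0 := by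
      rw [← frobenius_reciprocity' N₀ _ (isClassFunction_of_isCharacter (isCharacter_of_isIrr χ.2)),
        ← classInner_conj_symm, hw, classInner_sum_smul_irr]
      simpa using hχ
    obtain ⟨d, -, hd⟩ := exists_nat_degree_irr χ.2
    obtain ⟨e, -, he, ho, hde⟩ := exists_mul_eq_degree N₀ χ.2 ψ.2 hcon hd ha
    rw [hidx] at he ho
    rcases hcd χ with e' | e' | e' <;> rw [hd, Nat.cast_inj] at e' <;> rw [e'] at hde
    · left
      rw [ha, Nat.eq_one_of_mul_eq_one_left (Nat.eq_one_of_mul_eq_one_left hde.symm)]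
    · left
      rw [ha, key ψ a ha ?_]
      rw [← hf] at hde
      exact (hqf.symm).coprime_dvd_left ⟨e * (orbit N₀ (ψ : N₀ → ℂ)).card, by rw [hde]; ring⟩
    · right
      have he1 : e = 1 := (hcop.coprime_dvd_left he).eq_one_of_dvd ⟨_, hde⟩
      have ho1 : (orbit N₀ (ψ : N₀ → ℂ)).card = 1 :=
        (hcop.coprime_dvd_left ho).eq_one_of_dvd ⟨e * a, by rw [hde]; ring⟩
      rw [he1, ho1, one_mul, one_mul] at hde
      rw [ha, hde]
  have h2 := two_degrees_derived hcdN
  have hle : commutator G ≤ N₀ := by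
    rw [commutator_def, Subgroup.commutator_le]
    intro a _ b _
    rw [hN₀, Subgroup.mem_comap, map_commutatorElement]
    exact Subgroup.commutator_mem_commutator (Subgroup.mem_top _) (Subgroup.mem_top _)
  have h3 : ⁅⁅N₀, N₀⁆, ⁅N₀, N₀⁆⁆ = ⊥ := by
    rw [← Subgroup.map_subtype_commutator N₀, ← Subgroup.map_commutator, h2, Subgroup.map_bot]
  rw [derived_three_eq, ← le_bot_iff, ← h3]
  exact Subgroup.commutator_mono (Subgroup.commutator_mono hle hle) (Subgroup.commutator_mono hle hle)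

theorem coprime_case {m n : ℕ} (hm : 1 < m) (hn : 1 < n) (hcop : m.Coprime n)
    (hcd : ∀ χ : IrrCharacter G, (χ : G → ℂ) 1 = (1 : ℕ) ∨ (χ : G → ℂ) 1 = m ∨ (χ : G → ℂ) 1 = n) :
    derivedSeries G 3 = ⊥ := by
  classical
  haveI := Fintype.ofFinite G
  have hmn : m ≠ n := fun e => by
    rw [e] at hcop
    exact hn.ne' ((Nat.coprime_self n).mp hcop)
  by_cases hperf : ⁅commutator G, commutator G⁆ = commutator G
  · have htwo : ∀ d : ℕ, (∀ χ : IrrCharacter G, (χ : G → ℂ) 1 = (1 : ℕ) ∨ (χ : G → ℂ) 1 = d) →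
        derivedSeries G 3 = ⊥ := fun d h => derived_three_of_two (two_degrees_derived h)
    rcases lt_or_gt_of_ne hmn with h | h
    · rcases derived_eq_bot hm h hcop hcd hperf with e | e | e
      · exact derived_three_of_two (by rw [e, Subgroup.commutator_bot_left])
      · exact htwo m e
      · exact htwo n e
    · rcases derived_eq_bot hn h hcop.symm (fun χ => (hcd χ).imp_right Or.symm) hperf with e | e | e
      · exact derived_three_of_two (by rw [e, Subgroup.commutator_bot_left])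
      · exact htwo n e
      · exact htwo m e
  obtain ⟨R, ⟨hR, hR2, hRc⟩, hmax⟩ := Set.Finite.exists_maximal
    (s := {K : Subgroup G | K.Normal ∧ ⁅commutator G, commutator G⁆ ≤ K ∧ ¬ commutator G ≤ K})
    (Set.toFinite _) ⟨⁅commutator G, commutator G⁆, inferInstance, le_rfl,
      fun e => hperf (le_antisymm (Subgroup.commutator_le_left _ _) e)⟩
  haveI := hR
  have hmap : commutator (G ⧸ R) = (commutator G).map (QuotientGroup.mk' R) := by
    rw [commutator_def, commutator_def, Subgroup.map_commutator, ← MonoidHom.range_eq_map,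
      MonoidHom.range_eq_top.mpr (QuotientGroup.mk'_surjective R)]
  have hne : commutator (G ⧸ R) ≠ ⊥ := fun e => hRc (by
    rw [hmap, Subgroup.map_eq_bot_iff, QuotientGroup.ker_mk'] at e
    exact e)
  have hab : ∀ a ∈ commutator (G ⧸ R), ∀ b ∈ commutator (G ⧸ R), a * b = b * a := by
    intro a ha b hb
    rw [hmap] at ha hb
    obtain ⟨a, ha, rfl⟩ := ha
    obtain ⟨b, hb, rfl⟩ := hb
    rw [← commutatorElement_eq_one_iff_mul_comm, ← map_commutatorElement]
    exact (QuotientGroup.eq_one_iff _).mpr (hR2 (Subgroup.commutator_mem_commutator ha hb))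
  obtain ⟨q, hq, hQ⟩ := structure_of_minimal hne hab fun M hM hMne => by
    haveI := hM
    have hle : R ≤ M.comap (QuotientGroup.mk' R) := by
      intro x hx
      rw [Subgroup.mem_comap, QuotientGroup.mk'_apply, (QuotientGroup.eq_one_iff x).mpr hx]
      exact one_mem M
    rw [hmap, Subgroup.map_le_iff_le_comap]
    by_contra hc
    have := le_antisymm hle (hmax ⟨inferInstance, hR2.trans hle, hc⟩ hle)
    exact hMne (Subgroup.comap_injective (QuotientGroup.mk'_surjective R)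
      (by rw [← this, MonoidHom.comap_bot, QuotientGroup.ker_mk']))
  haveI := Fact.mk hq
  rcases hQ with hQp | ⟨hNq, hqf, hf1, hsurj⟩
  · obtain ⟨β, hβ⟩ : ∃ β : IrrCharacter (G ⧸ R), (β : G ⧸ R → ℂ) 1 ≠ 1 := by
      by_contra h'
      push_neg at h'
      refine hne (le_bot_iff.mp ?_)
      rw [commutator_def, Subgroup.commutator_le]
      exact fun a _ b _ => Subgroup.mem_bot.mpr
        (commutatorElement_eq_one_iff_mul_comm.mpr ((Cfsg.Agent.S0187.result (G := G ⧸ R)).mpr h' a b))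
    obtain ⟨b, hb, -, hbdvd⟩ := exists_degree_dvd_card β.2
    obtain ⟨k, hk⟩ := hQp.exists_card_eq
    have hb1 : b ≠ 1 := fun e => hβ (by rw [hb, e, Nat.cast_one])
    let γ : IrrCharacter G :=
      ⟨_, isIrrCharacter_comp (f := QuotientGroup.mk' R) (QuotientGroup.mk'_surjective R) β.2⟩
    have hγ : (γ : G → ℂ) 1 = b := by simpa [γ] using hb
    have hqb : q ∣ b := by
      obtain ⟨j, -, rfl⟩ := (Nat.dvd_prime_pow hq).mp (hk ▸ hbdvd)
      exact dvd_pow_self q fun e => hb1 (by rw [e, pow_zero])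
    have key : ∀ m n : ℕ, 1 < m → 1 < n → m.Coprime n →
        (∀ χ : IrrCharacter G, (χ : G → ℂ) 1 = (1 : ℕ) ∨ (χ : G → ℂ) 1 = m ∨ (χ : G → ℂ) 1 = n) →
        b = m → derivedSeries G 3 = ⊥ := by
      intro m n hm hn hcop hcd hbm
      refine derived_three_of_two (two_degrees_derived (d := m) fun χ => ?_)
      rcases hcd χ with e | e | e
      · exact Or.inl e
      · exact Or.inr e
      exfalso
      have hqn : n.Coprime R.index := by
        show n.Coprime (Nat.card (G ⧸ R))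
        rw [hk]
        refine Nat.Coprime.pow_right _ ((hcop.symm).coprime_dvd_right ?_)
        exact hbm ▸ hqb
      have hirr := isIrr_mul_inflate R χ.2 (restrict_irr_of_coprime R χ.2 e hqn) β.2
      have hdeg : ((fun g : G => (β : G ⧸ R → ℂ) g) * (χ : G → ℂ)) 1 = ((m * n : ℕ) : ℂ) := by
        rw [Pi.mul_apply, QuotientGroup.mk_one, hb, e, hbm]; push_cast; rfl
      rcases hcd ⟨_, hirr⟩ with e' | e' | e' <;>
        · have h := Nat.cast_injective (hdeg.symm.trans e')
          nlinarith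
    rcases hcd γ with e | e | e <;> rw [hγ, Nat.cast_inj] at e
    · exact absurd e hb1
    · exact key m n hm hn hcop hcd e
    · exact key n m hn hm hcop.symm (fun χ => (hcd χ).imp_right Or.symm) e
  · obtain ⟨χ, hχ⟩ := exists_induced_degree R q hNq hne hab hsurj
      ⟨fun _ => 1, isIrrCharacter_one⟩ 1 (by simp) (Nat.coprime_one_left q)
    rw [mul_one] at hχ
    rcases hcd χ with e | e | e <;> rw [hχ, Nat.cast_inj] at e
    · omega
    · exact frobenius_case R hm hn hcop hcd q hNq hne hab hsurj hqf e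
    · exact frobenius_case R hn hm hcop.symm (fun χ => (hcd χ).imp_right Or.symm) q hNq hne hab hsurj hqf e

end CfsgLib.ThreeDegrees
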