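import Cfsg.Agent.Lib.ThreeDegrees.Count
import Cfsg.Agent.Lib.TwoDegrees.Basic
import Cfsg.Agent.S0187

/-!
# A group with perfect derived subgroup does not have three coprime degrees
-/

set_option autoImplicit false
set_option linter.style.haveILetI false
set_option linter.unusedSectionVars false

namespace CfsgLib.ThreeDegrees

open Cfsg CfsgLib.Char
open scoped ComplexConjugate CfsgLib.Char commutatorElement

universe u

theorem two_degrees_derived {G : Type u} [Group G] [Finite G] {d : ℕ}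
    (hcd : ∀ χ : IrrCharacter G, (χ : G → ℂ) 1 = (1 : ℕ) ∨ (χ : G → ℂ) 1 = d) :
    ⁅commutator G, commutator G⁆ = ⊥ := by
  classical
  by_cases h : d = 0 ∨ d = 1
  · have hlin : ∀ χ : IrrCharacter G, (χ : G → ℂ) 1 = 1 := fun χ => by
      rcases hcd χ with e | e
      · rw [e, Nat.cast_one]
      · rcases h with h | h
        · exact absurd (by rw [e, h, Nat.cast_zero]) (irr_degree_ne_zero χ.2)
        · rw [e, h, Nat.cast_one]
    have hab := (Cfsg.Agent.S0187.result (G := G)).mpr hlin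
    rw [Subgroup.commutator_eq_bot_iff_le_centralizer]
    exact fun x _ => Subgroup.mem_centralizer_iff.mpr fun y _ => hab y x
  push_neg at h
  have hab := CfsgLib.TwoDegrees.derived_abelian (G := G) (m := d)
    (fun χ => (hcd χ).imp (fun e => Extraspecial.charDegree_eq e) fun e => Extraspecial.charDegree_eq e)
    h.1 h.2
  rw [Subgroup.commutator_eq_bot_iff_le_centralizer]
  exact fun x hx => Subgroup.mem_centralizer_iff.mpr fun y hy => hab y hy x hx

variable {G : Type u} [Group G] [Fintype G]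

theorem closed_linear {d : ℕ} (A : Set (IrrCharacter G))
    (hdeg : ∀ a ∈ A, (a : G → ℂ) 1 = (1 : ℕ) ∨ (a : G → ℂ) 1 = d)
    (hone : (⟨fun _ => 1, isIrrCharacter_one⟩ : IrrCharacter G) ∈ A)
    (hmul : ∀ a ∈ A, ∀ b ∈ A, ∀ ψ : IrrCharacter G,
      classInner ((a : G → ℂ) * (b : G → ℂ)) (ψ : G → ℂ) ≠ 0 → ψ ∈ A)
    (hperf : ⁅commutator G, commutator G⁆ = commutator G) :
    ∀ a ∈ A, (a : G → ℂ) 1 = 1 := by
  classical
  choose K hKn hKm hKc using fun a : IrrCharacter G => exists_kernel (isCharacter_of_isIrr a.2)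
  haveI := hKn
  set R : Subgroup G := ⨅ a : A, K a
  haveI hR : R.Normal := Subgroup.normal_iInf_normal fun a => hKn a
  have hRm : ∀ g ∈ R, ∀ a ∈ A, (a : G → ℂ) g = (a : G → ℂ) 1 := fun g hg a ha =>
    (hKm a g).mp (Subgroup.mem_iInf.mp hg ⟨a, ha⟩)
  have hq : ∀ β : IrrCharacter (G ⧸ R), (β : G ⧸ R → ℂ) 1 = (1 : ℕ) ∨ (β : G ⧸ R → ℂ) 1 = d := by
    intro β
    let γ : IrrCharacter G :=
      ⟨_, isIrrCharacter_comp (f := QuotientGroup.mk' R) (QuotientGroup.mk'_surjective R) β.2⟩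
    have hmem : γ ∈ A := mem_of_closed A hone hmul γ fun g hg => by
      have : g ∈ R := Subgroup.mem_iInf.mpr fun a => (hKm a g).mpr (hg a a.2)
      show (β : G ⧸ R → ℂ) (g : G ⧸ R) = (β : G ⧸ R → ℂ) ((1 : G) : G ⧸ R)
      rw [(QuotientGroup.eq_one_iff g).mpr this, QuotientGroup.mk_one]
    simpa [γ] using hdeg γ hmem
  have h2 := two_degrees_derived hq
  have hle : commutator G ≤ R := by
    intro g hg
    rw [← hperf] at hg
    have := Subgroup.mem_map_of_mem (QuotientGroup.mk' R) hg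
    rw [Subgroup.map_commutator, commutator_def, Subgroup.map_commutator, ← MonoidHom.range_eq_map,
      MonoidHom.range_eq_top.mpr (QuotientGroup.mk'_surjective R), ← commutator_def, h2,
      Subgroup.mem_bot] at this
    exact (QuotientGroup.eq_one_iff g).mp this
  exact fun a ha => linear_of_trivial_on_commutator a.2 fun g hg => hRm g (hle hg) a ha

variable {m n : ℕ} (hm : 1 < m) (hn : m < n) (hcop : m.Coprime n)
  (hcd : ∀ χ : IrrCharacter G, (χ : G → ℂ) 1 = (1 : ℕ) ∨ (χ : G → ℂ) 1 = m ∨ (χ : G → ℂ) 1 = n)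

include hm hn hcop hcd

/-- The product of characters of degree `m` and `n` is pure. -/
theorem mixed (α φ : IrrCharacter G) (hα : (α : G → ℂ) 1 = m) (hφ : (φ : G → ℂ) 1 = n) :
    cnt 1 ((α : G → ℂ) * (φ : G → ℂ)) = 0 ∧
      (cnt m ((α : G → ℂ) * (φ : G → ℂ)) = 0 ∨ cnt n ((α : G → ℂ) * (φ : G → ℂ)) = 0) := by
  have hf := isCharacter_mul (isCharacter_of_isIrr α.2) (isCharacter_of_isIrr φ.2)
  have h1 : cnt 1 ((α : G → ℂ) * (φ : G → ℂ)) = 0 := cnt_eq_zero fun l hl => by
    rw [inner_mul_left]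
    refine classInner_irr_ne α.2 ?_ fun e => ?_
    · have hl' : (l : G → ℂ) 1 = 1 := by rw [hl, Nat.cast_one]
      have := isIrrCharacter_linear_mul (isIrr_cj φ.2) (linearHom (isCharacter_of_isIrr l.2) hl')
      simp only [linearHom_apply] at this
      exact this
    · have := congrFun e 1
      rw [hα, Pi.mul_apply, hl, cj_one hφ, Nat.cast_one, one_mul, Nat.cast_inj] at this
      omega
  refine ⟨h1, ?_⟩
  have hd := degree_eq hm hn hcd hf
  rw [Pi.mul_apply, hα, hφ, h1, zero_add] at hd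
  obtain ⟨a, ha⟩ := exists_cnt m hf
  obtain ⟨b, hb⟩ := exists_cnt n hf
  rw [ha, hb] at hd ⊢
  simp only [Nat.cast_eq_zero]
  have hd' : m * n = m * a + n * b := by exact_mod_cast hd
  by_contra hne
  push_neg at hne
  have hnb : m ∣ n * b := (Nat.dvd_add_right (dvd_mul_right m a)).mp (hd' ▸ dvd_mul_right m n)
  have hma : n ∣ m * a := (Nat.dvd_add_left (dvd_mul_right n b)).mp (hd' ▸ dvd_mul_left n m)
  have hb' := Nat.le_of_dvd (Nat.pos_of_ne_zero hne.2) (hcop.dvd_of_dvd_mul_left hnb)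
  have ha' := Nat.le_of_dvd (Nat.pos_of_ne_zero hne.1) (hcop.symm.dvd_of_dvd_mul_left hma)
  nlinarith

/-- The basic proportion. -/
theorem proportion (χ ψ : IrrCharacter G) (hχ : (χ : G → ℂ) 1 = m) (hψ : (ψ : G → ℂ) 1 = m) :
    cnt 1 ((χ : G → ℂ) * cj (χ : G → ℂ)) * cnt n ((ψ : G → ℂ) * cj (χ : G → ℂ)) =
      cnt n ((χ : G → ℂ) * cj (χ : G → ℂ)) * cnt 1 ((ψ : G → ℂ) * cj (χ : G → ℂ)) := by
  have hf := isCharacter_mul (isCharacter_of_isIrr ψ.2) (isCharacter_cj (isCharacter_of_isIrr χ.2))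
  by_cases h : cnt 1 ((ψ : G → ℂ) * cj (χ : G → ℂ)) = 0
  · have hd := degree_eq hm hn hcd hf
    rw [Pi.mul_apply, hψ, cj_one hχ, h, zero_add] at hd
    obtain ⟨a, ha⟩ := exists_cnt m hf
    obtain ⟨b, hb⟩ := exists_cnt n hf
    rw [ha, hb] at hd
    rw [h, hb]
    have hd' : m * m = m * a + n * b := by exact_mod_cast hd
    have hnb : m ∣ n * b := (Nat.dvd_add_right (dvd_mul_right m a)).mp (hd' ▸ dvd_mul_right m m)
    have hb0 : b = 0 := by
      by_contra hb0
      have := Nat.le_of_dvd (Nat.pos_of_ne_zero hb0) (hcop.dvd_of_dvd_mul_left hnb)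
      nlinarith
    simp [hb0]
  · obtain ⟨l, hl, hne⟩ : ∃ l : IrrCharacter G, (l : G → ℂ) 1 = (1 : ℕ) ∧
        classInner ((ψ : G → ℂ) * cj (χ : G → ℂ)) (l : G → ℂ) ≠ 0 := by
      by_contra h'
      push_neg at h'
      exact h (cnt_eq_zero h')
    rw [inner_mul_left, cj_cj] at hne
    have hl' : (l : G → ℂ) 1 = 1 := by rw [hl, Nat.cast_one]
    have hirr : IsIrrCharacter G ((l : G → ℂ) * (χ : G → ℂ)) := by
      have := isIrrCharacter_linear_mul χ.2 (linearHom (isCharacter_of_isIrr l.2) hl')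
      simp only [linearHom_apply] at this
      exact this
    have e : (ψ : G → ℂ) = (l : G → ℂ) * χ := by
      by_contra e
      exact hne (classInner_irr_ne ψ.2 hirr e)
    rw [e, mul_assoc, cnt_linear_mul _ l.2 hl, cnt_linear_mul _ l.2 hl, mul_comm]

theorem linear_mul_degree (d : ℕ) (hd : d ≠ m) (α β : IrrCharacter G) (hα : (α : G → ℂ) 1 = (1 : ℕ))
    (hβ : (β : G → ℂ) 1 = m) : cnt d ((α : G → ℂ) * (β : G → ℂ)) = 0 := by
  rw [cnt_linear_mul d α.2 hα]
  exact cnt_irr' β.2 hβ hd.symm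

/-- The two evaluations of a triple product. -/
theorem triple (χ χ' : IrrCharacter G) (hχ : (χ : G → ℂ) 1 = m) (hχ' : (χ' : G → ℂ) 1 = m) :
    cnt 1 ((χ : G → ℂ) * cj (χ : G → ℂ)) * cnt n ((χ' : G → ℂ) * (χ : G → ℂ) * cj (χ : G → ℂ)) =
        cnt n ((χ : G → ℂ) * cj (χ : G → ℂ)) * cnt 1 ((χ' : G → ℂ) * (χ : G → ℂ) * cj (χ : G → ℂ)) ∧
      cnt 1 ((χ' : G → ℂ) * cj (χ' : G → ℂ)) * cnt n ((χ' : G → ℂ) * (χ : G → ℂ) * cj (χ : G → ℂ)) =
        cnt n ((χ' : G → ℂ) * cj (χ' : G → ℂ)) * cnt 1 ((χ' : G → ℂ) * (χ : G → ℂ) * cj (χ : G → ℂ)) +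
          cnt 1 ((χ' : G → ℂ) * cj (χ' : G → ℂ)) * ∑ φ : IrrCharacter G,
            (if (φ : G → ℂ) 1 = n then classInner ((χ : G → ℂ) * cj (χ : G → ℂ)) (φ : G → ℂ) *
              cnt n ((φ : G → ℂ) * (χ' : G → ℂ)) else 0) := by
  classical
  have hc := isCharacter_of_isIrr χ.2
  have hc' := isCharacter_of_isIrr χ'.2
  have h1m : (1 : ℕ) ≠ m := hm.ne
  have hnm : n ≠ m := hn.ne'
  constructor
  · rw [cnt_mul n (isCharacter_mul hc' hc), cnt_mul 1 (isCharacter_mul hc' hc), Finset.mul_sum,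
      Finset.mul_sum]
    refine Finset.sum_congr rfl fun ψ _ => ?_
    rw [mul_left_comm, mul_left_comm (cnt n _)]
    by_cases h0 : classInner ((χ' : G → ℂ) * (χ : G → ℂ)) (ψ : G → ℂ) = 0
    · simp [h0]
    congr 1
    have hcj : ((⟨cj (χ : G → ℂ), isIrr_cj χ.2⟩ : IrrCharacter G) : G → ℂ) 1 = m := cj_one hχ
    rcases hcd ψ with e | e | e
    · rw [linear_mul_degree hm hn hcop hcd n hnm ψ ⟨cj (χ : G → ℂ), isIrr_cj χ.2⟩ e hcj,
        linear_mul_degree hm hn hcop hcd 1 h1m ψ ⟨cj (χ : G → ℂ), isIrr_cj χ.2⟩ e hcj, mul_zero, mul_zero]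
    · exact proportion hm hn hcop hcd χ ψ hχ e
    · obtain ⟨hz, hor⟩ := mixed hm hn hcop hcd ⟨cj (χ : G → ℂ), isIrr_cj χ.2⟩ ψ hcj e
      rw [mul_comm (cj (χ : G → ℂ))] at hz hor
      rw [hz, mul_zero]
      refine mul_eq_zero_of_right _ (hor.resolve_left fun hmz => h0 ?_)
      have h := inner_eq_zero_of_cnt (isCharacter_mul (isCharacter_of_isIrr ψ.2) (isCharacter_cj hc))
        hmz χ' hχ'
      rw [inner_mul_left, cj_cj] at h
      rw [← classInner_conj_symm, h, map_zero]
  · rw [mul_assoc (χ' : G → ℂ), mul_comm (χ' : G → ℂ) ((χ : G → ℂ) * cj (χ : G → ℂ)),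
      cnt_mul n (isCharacter_mul hc (isCharacter_cj hc)),
      cnt_mul 1 (isCharacter_mul hc (isCharacter_cj hc)), Finset.mul_sum, Finset.mul_sum,
      Finset.mul_sum, ← Finset.sum_add_distrib]
    refine Finset.sum_congr rfl fun ψ _ => ?_
    rcases hcd ψ with e | e | e
    · rw [linear_mul_degree hm hn hcop hcd n hnm ψ χ' e hχ',
        linear_mul_degree hm hn hcop hcd 1 h1m ψ χ' e hχ', if_neg (by
          rw [e]; exact fun h => (hm.trans hn).ne (Nat.cast_injective h))]
      ring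
    · rw [if_neg (by rw [e]; exact fun h => hn.ne (Nat.cast_injective h)), mul_zero, add_zero,
        mul_left_comm, mul_left_comm (cnt n _)]
      congr 1
      have hp := proportion hm hn hcop hcd ⟨cj (χ' : G → ℂ), isIrr_cj χ'.2⟩ ψ (cj_one hχ') e
      simp only [cj_cj] at hp
      rw [mul_comm (cj (χ' : G → ℂ))] at hp
      exact hp
    · obtain ⟨hz, -⟩ := mixed hm hn hcop hcd χ' ψ hχ' e
      rw [mul_comm (χ' : G → ℂ)] at hz
      rw [hz, if_pos e, mul_zero, mul_zero, zero_add]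

theorem one_le_cnt (χ : IrrCharacter G) : ∃ c : ℕ, 0 < c ∧ cnt 1 ((χ : G → ℂ) * cj (χ : G → ℂ)) = c := by
  have hf := isCharacter_mul (isCharacter_of_isIrr χ.2) (isCharacter_cj (isCharacter_of_isIrr χ.2))
  obtain ⟨c, hc⟩ := exists_cnt 1 hf
  refine ⟨c, Nat.pos_of_ne_zero fun h => ?_, hc⟩
  have h0 := inner_eq_zero_of_cnt hf (by rw [hc, h, Nat.cast_zero]) ⟨fun _ => 1, isIrrCharacter_one⟩
    (by simp)
  rw [inner_mul_left, cj_cj, show (fun _ : G => (1 : ℂ)) * (χ : G → ℂ) = χ from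
    funext fun g => one_mul _, classInner_irr_self χ.2] at h0
  exact one_ne_zero h0

theorem derived_eq_bot (hperf : ⁅commutator G, commutator G⁆ = commutator G) :
    commutator G = ⊥ ∨
      (∀ χ : IrrCharacter G, (χ : G → ℂ) 1 = (1 : ℕ) ∨ (χ : G → ℂ) 1 = m) ∨
      (∀ χ : IrrCharacter G, (χ : G → ℂ) 1 = (1 : ℕ) ∨ (χ : G → ℂ) 1 = n) := by
  classical
  by_contra hno
  push_neg at hno
  obtain ⟨-, ⟨φ₀, hφ₀1, hφ₀m⟩, ⟨χ₀, hχ₀1, hχ₀n⟩⟩ := hno
  have hχ₀ : (χ₀ : G → ℂ) 1 = m := by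
    rcases hcd χ₀ with e | e | e
    · exact absurd e hχ₀1
    · exact e
    · exact absurd e hχ₀n
  choose c hc0 hc using one_le_cnt hm hn hcop hcd
  choose b hb using fun χ : IrrCharacter G => exists_cnt n
    (isCharacter_mul (isCharacter_of_isIrr χ.2) (isCharacter_cj (isCharacter_of_isIrr χ.2)))
  choose d hd0 hd using fun χ : IrrCharacter G => exists_nat_degree_irr χ.2
  have hchar : ∀ χ : IrrCharacter G, IsCharacter G (χ : G → ℂ) := fun χ => isCharacter_of_isIrr χ.2
  have hlin : ∀ (l α : IrrCharacter G), (l : G → ℂ) 1 = (1 : ℕ) → ∀ ψ : IrrCharacter G,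
      classInner ((l : G → ℂ) * (α : G → ℂ)) (ψ : G → ℂ) ≠ 0 → (ψ : G → ℂ) = (l : G → ℂ) * α := by
    intro l α hl ψ hψ
    have hirr : IsIrrCharacter G ((l : G → ℂ) * (α : G → ℂ)) := by
      have := isIrrCharacter_linear_mul α.2
        (linearHom (isCharacter_of_isIrr l.2) (by rw [hl, Nat.cast_one]))
      simp only [linearHom_apply] at this
      exact this
    by_contra e
    exact hψ (classInner_irr_ne hirr ψ.2 (Ne.symm e))
  -- some character of degree m has constituents of degree n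
  obtain ⟨χ₁, hχ₁, hb₁⟩ : ∃ χ : IrrCharacter G, (χ : G → ℂ) 1 = m ∧ 0 < b χ := by
    by_contra h0
    push_neg at h0
    have hz : ∀ χ ψ : IrrCharacter G, (χ : G → ℂ) 1 = m → (ψ : G → ℂ) 1 = m →
        cnt n ((ψ : G → ℂ) * (χ : G → ℂ)) = 0 := by
      intro χ ψ hχ hψ
      have hp := proportion hm hn hcop hcd ⟨cj (χ : G → ℂ), isIrr_cj χ.2⟩ ψ (cj_one hχ) hψ
      simp only [cj_cj] at hp
      rw [mul_comm (cj (χ : G → ℂ)), hc, hb, Nat.le_zero.mp (h0 χ hχ), Nat.cast_zero, zero_mul] at hp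
      exact (mul_eq_zero.mp hp).resolve_left (Nat.cast_ne_zero.mpr (hc0 χ).ne')
    have := closed_linear (d := m) {a : IrrCharacter G | (a : G → ℂ) 1 = (1 : ℕ) ∨ (a : G → ℂ) 1 = m}
      (fun a ha => ha) (Or.inl (by simp)) (fun a ha a' ha' ψ hψ => by
        rcases ha with ha | ha
        · have e := congrFun (hlin a a' ha ψ hψ) 1
          rw [Pi.mul_apply, ha, Nat.cast_one, one_mul] at e
          rw [Set.mem_setOf_eq, e]
          exact ha'
        rcases ha' with ha' | ha'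
        · rw [mul_comm] at hψ
          have e := congrFun (hlin a' a ha' ψ hψ) 1
          rw [Pi.mul_apply, ha', Nat.cast_one, one_mul] at e
          rw [Set.mem_setOf_eq, e]
          exact Or.inr ha
        rcases hcd ψ with e | e | e
        · exact Or.inl e
        · exact Or.inr e
        · exact absurd (inner_eq_zero_of_cnt (isCharacter_mul (hchar a) (hchar a'))
            (hz a' a ha' ha) ψ e) hψ) hperf χ₀ (Or.inr hχ₀)
    rw [hχ₀, Nat.cast_eq_one] at this
    omega
  -- constituents of degree m of a character with none of degree n again have none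
  have hclosed0 : ∀ χ ψ : IrrCharacter G, (χ : G → ℂ) 1 = m → b χ = 0 → (ψ : G → ℂ) 1 = m →
      classInner ((χ : G → ℂ) * cj (χ : G → ℂ)) (ψ : G → ℂ) ≠ 0 → b ψ = 0 := by
    intro χ ψ hχ hbχ hψ hne
    let ψ' : IrrCharacter G := ⟨cj (ψ : G → ℂ), isIrr_cj ψ.2⟩
    obtain ⟨e1, e2⟩ := triple hm hn hcop hcd χ ψ' hχ (cj_one hψ)
    rw [hc, hb, hbχ, Nat.cast_zero, zero_mul, mul_eq_zero] at e1
    have e1' := e1.resolve_left (Nat.cast_ne_zero.mpr (hc0 χ).ne')
    have hT : (∑ φ : IrrCharacter G, (if (φ : G → ℂ) 1 = n then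
        classInner ((χ : G → ℂ) * cj (χ : G → ℂ)) (φ : G → ℂ) * cnt n ((φ : G → ℂ) * (ψ' : G → ℂ)) else 0)) = 0 :=
      Finset.sum_eq_zero fun φ _ => by
        split_ifs with h
        · rw [inner_eq_zero_of_cnt (isCharacter_mul (hchar χ) (isCharacter_cj (hchar χ)))
            (by rw [hb, hbχ, Nat.cast_zero]) φ h, zero_mul]
        · rfl
    rw [e1', hT, mul_zero, add_zero, zero_eq_mul, hb] at e2
    rcases e2 with e2 | e2
    · have hbψ : cnt n ((ψ' : G → ℂ) * cj (ψ' : G → ℂ)) = (b ψ : ℂ) := by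
        simp only [ψ', cj_cj]
        rw [mul_comm, hb]
      rw [hb] at hbψ
      rw [Nat.cast_inj] at hbψ
      rw [Nat.cast_eq_zero] at e2
      omega
    · exfalso
      rw [mul_assoc, mul_comm, cnt_mul 1 (isCharacter_mul (hchar χ) (isCharacter_cj (hchar χ)))] at e2
      choose a ha using exists_inner (isCharacter_mul (hchar χ) (isCharacter_cj (hchar χ)))
      choose w hw using fun α : IrrCharacter G => exists_cnt 1
        (isCharacter_mul (hchar α) (hchar ψ'))
      simp only [ha, hw, ← Nat.cast_mul, ← Nat.cast_sum, Nat.cast_eq_zero,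
        Finset.sum_eq_zero_iff] at e2
      rw [ha, Nat.cast_ne_zero] at hne
      have := (mul_eq_zero.mp (e2 ψ (Finset.mem_univ _))).resolve_left hne
      have h1 := hw ψ
      rw [this, Nat.cast_zero, hc, Nat.cast_eq_zero] at h1
      exact (hc0 ψ).ne' h1
  -- characters of degree m without constituents of degree n are linear
  have hpos : ∀ χ : IrrCharacter G, (χ : G → ℂ) 1 = m → 0 < b χ := by
    intro χ hχ
    by_contra hbχ
    have hz : ∀ α β : IrrCharacter G, (α : G → ℂ) 1 = m → b α = 0 → (β : G → ℂ) 1 = m →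
        cnt n ((β : G → ℂ) * (α : G → ℂ)) = 0 := by
      intro α β hα hbα hβ
      have hp := proportion hm hn hcop hcd ⟨cj (α : G → ℂ), isIrr_cj α.2⟩ β (cj_one hα) hβ
      simp only [cj_cj] at hp
      rw [mul_comm (cj (α : G → ℂ)), hc, hb, hbα, Nat.cast_zero, zero_mul] at hp
      exact (mul_eq_zero.mp hp).resolve_left (Nat.cast_ne_zero.mpr (hc0 α).ne')
    have hblin : ∀ l α ψ : IrrCharacter G, (l : G → ℂ) 1 = (1 : ℕ) →
        (ψ : G → ℂ) = (l : G → ℂ) * α → b ψ = b α := by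
      intro l α ψ hl e
      have : ((b ψ : ℂ)) = b α := by
        rw [← hb, ← hb, e, cj_mul, mul_mul_mul_comm]
        have hll : (l : G → ℂ) * cj l = fun _ => 1 := by
          funext g
          have hl' : (l : G → ℂ) 1 = 1 := by rw [hl, Nat.cast_one]
          rw [Pi.mul_apply, cj, ← linearHom_apply (isCharacter_of_isIrr l.2) hl']
          exact linear_mul_conj _ g
        rw [hll, show (fun _ : G => (1 : ℂ)) * ((α : G → ℂ) * cj (α : G → ℂ)) = (α : G → ℂ) * cj (α : G → ℂ) from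
          funext fun g => one_mul _]
      exact_mod_cast this
    have := closed_linear (d := m)
      {a : IrrCharacter G | (a : G → ℂ) 1 = (1 : ℕ) ∨ ((a : G → ℂ) 1 = m ∧ b a = 0)}
      (fun a ha => ha.imp_right And.left) (Or.inl (by simp)) (fun a ha a' ha' ψ hψ => by
        rcases ha with ha | ⟨ha, hba⟩
        · have e := hlin a a' ha ψ hψ
          have e1 := congrFun e 1
          rw [Pi.mul_apply, ha, Nat.cast_one, one_mul] at e1
          rw [Set.mem_setOf_eq, e1, hblin a a' ψ ha e]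
          exact ha'
        rcases ha' with ha' | ⟨ha', hba'⟩
        · rw [mul_comm] at hψ
          have e := hlin a' a ha' ψ hψ
          have e1 := congrFun e 1
          rw [Pi.mul_apply, ha', Nat.cast_one, one_mul] at e1
          rw [Set.mem_setOf_eq, e1, hblin a' a ψ ha' e]
          exact Or.inr ⟨ha, hba⟩
        rcases hcd ψ with e | e | e
        · exact Or.inl e
        · refine Or.inr ⟨e, ?_⟩
          have hca := isCharacter_mul (hchar a) (isCharacter_cj (hchar a))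
          have hca' := isCharacter_mul (hchar a') (isCharacter_cj (hchar a'))
          have hzero : cnt n (((a : G → ℂ) * (a' : G → ℂ)) * cj ((a : G → ℂ) * (a' : G → ℂ))) = 0 := by
            rw [cj_mul, mul_mul_mul_comm, cnt_mul n hca]
            refine Finset.sum_eq_zero fun α _ => ?_
            by_cases h1 : classInner ((a : G → ℂ) * cj (a : G → ℂ)) (α : G → ℂ) = 0
            · rw [h1, zero_mul]
            refine mul_eq_zero_of_right _ ?_
            rw [cnt_mul_right n _ hca']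
            refine Finset.sum_eq_zero fun β _ => ?_
            by_cases h2 : classInner ((a' : G → ℂ) * cj (a' : G → ℂ)) (β : G → ℂ) = 0
            · rw [h2, zero_mul]
            refine mul_eq_zero_of_right _ ?_
            rcases hcd α with eα | eα | eα
            · rw [cnt_linear_mul n α.2 eα]
              rcases hcd β with eβ | eβ | eβ
              · exact cnt_irr' β.2 eβ (hm.trans hn).ne
              · exact cnt_irr' β.2 eβ hn.ne
              · exact absurd (inner_eq_zero_of_cnt hca' (by rw [hb, hba', Nat.cast_zero]) β eβ) h2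
            · rcases hcd β with eβ | eβ | eβ
              · rw [mul_comm, cnt_linear_mul n β.2 eβ]
                exact cnt_irr' α.2 eα hn.ne
              · exact hz β α eβ (hclosed0 a' β ha' hba' eβ h2) eα
              · exact absurd (inner_eq_zero_of_cnt hca' (by rw [hb, hba', Nat.cast_zero]) β eβ) h2
            · exact absurd (inner_eq_zero_of_cnt hca (by rw [hb, hba, Nat.cast_zero]) α eα) h1
          have h3 := cnt_mul_constituent (isCharacter_mul (hchar a) (hchar a'))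
            (isCharacter_cj (isCharacter_mul (hchar a) (hchar a'))) hzero ψ hψ
          rw [mul_comm] at h3
          have hψ' : classInner (cj ((a : G → ℂ) * (a' : G → ℂ))) (cj (ψ : G → ℂ)) ≠ 0 := by
            rw [inner_cj]; exact fun h => hψ (by simpa using congrArg conj h)
          have h4 := cnt_mul_constituent (isCharacter_cj (isCharacter_mul (hchar a) (hchar a')))
            (hchar ψ) h3 ⟨cj (ψ : G → ℂ), isIrr_cj ψ.2⟩ hψ'
          rw [mul_comm, hb, Nat.cast_eq_zero] at h4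
          exact h4
        · exact absurd (inner_eq_zero_of_cnt (isCharacter_mul (hchar a) (hchar a'))
            (hz a' a ha' hba' ha) ψ e) hψ) hperf χ (Or.inr ⟨hχ, by omega⟩)
    rw [hχ, Nat.cast_eq_one] at this
    omega
  -- the minimal proportion
  obtain ⟨χ, hχS, hmin⟩ := Finset.exists_min_image
    (Finset.univ.filter fun χ : IrrCharacter G => (χ : G → ℂ) 1 = m) (fun χ => (b χ : ℚ) / c χ)
    ⟨χ₁, Finset.mem_filter.mpr ⟨Finset.mem_univ _, hχ₁⟩⟩
  have hχ := (Finset.mem_filter.mp hχS).2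
  obtain ⟨φ, hφ, hφne⟩ : ∃ φ : IrrCharacter G, (φ : G → ℂ) 1 = n ∧
      classInner ((χ : G → ℂ) * cj (χ : G → ℂ)) (φ : G → ℂ) ≠ 0 := by
    by_contra h
    push_neg at h
    have := cnt_eq_zero h
    rw [hb, Nat.cast_eq_zero] at this
    exact (hpos χ hχ).ne' this
  have hN0 : ∀ ψ : IrrCharacter G, (ψ : G → ℂ) 1 = m → cnt n ((φ : G → ℂ) * (ψ : G → ℂ)) = 0 := by
    intro ψ hψ
    obtain ⟨e1, e2⟩ := triple hm hn hcop hcd χ ψ hχ hψ
    obtain ⟨s, hs⟩ := exists_cnt 1
      (isCharacter_mul (isCharacter_mul (hchar ψ) (hchar χ)) (isCharacter_cj (hchar χ)))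
    obtain ⟨N, hN⟩ := exists_cnt n
      (isCharacter_mul (isCharacter_mul (hchar ψ) (hchar χ)) (isCharacter_cj (hchar χ)))
    choose a ha using exists_inner (isCharacter_mul (hchar χ) (isCharacter_cj (hchar χ)))
    choose w hw using fun α : IrrCharacter G => exists_cnt n (isCharacter_mul (hchar α) (hchar ψ))
    set T := ∑ α : IrrCharacter G, if (α : G → ℂ) 1 = n then a α * w α else 0 with hT
    have hTc : (∑ α : IrrCharacter G, (if (α : G → ℂ) 1 = n then
        classInner ((χ : G → ℂ) * cj (χ : G → ℂ)) (α : G → ℂ) * cnt n ((α : G → ℂ) * (ψ : G → ℂ)) else 0)) =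
        (T : ℂ) := by
      rw [hT]; push_cast
      exact Finset.sum_congr rfl fun α _ => by split_ifs <;> simp [ha, hw]
    rw [hc, hb, hs, hN] at e1
    rw [hc, hb, hs, hN, hTc] at e2
    have e1' : c χ * N = b χ * s := by exact_mod_cast e1
    have e2' : c ψ * N = b ψ * s + c ψ * T := by exact_mod_cast e2
    have hle := hmin ψ (Finset.mem_filter.mpr ⟨Finset.mem_univ _, hψ⟩)
    rw [div_le_div_iff₀ (Nat.cast_pos.mpr (hc0 χ)) (Nat.cast_pos.mpr (hc0 ψ))] at hle
    have hle' : b χ * c ψ ≤ b ψ * c χ := by exact_mod_cast hle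
    have hT0 : T = 0 := by
      have h1 : b χ * c ψ * s ≤ b ψ * c χ * s := Nat.mul_le_mul_right _ hle'
      have h2 : c χ * (c ψ * N) = b ψ * c χ * s + c χ * c ψ * T := by rw [e2']; ring
      have h3 : c χ * (c ψ * N) = b χ * c ψ * s := by
        rw [mul_left_comm, e1']; ring
      have h4 : c χ * c ψ * T = 0 := by omega
      rcases Nat.mul_eq_zero.mp h4 with h | h
      · rcases Nat.mul_eq_zero.mp h with h | h
        · exact absurd h (hc0 χ).ne'
        · exact absurd h (hc0 ψ).ne'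
      · exact h
    have := (Finset.sum_eq_zero_iff.mp hT0) φ (Finset.mem_univ _)
    rw [if_pos hφ] at this
    rw [ha, Nat.cast_ne_zero] at hφne
    rw [hw, (Nat.mul_eq_zero.mp this).resolve_left hφne, Nat.cast_zero]
  have := closed_linear (d := n)
    {a : IrrCharacter G | (a : G → ℂ) 1 = (1 : ℕ) ∨ ((a : G → ℂ) 1 = n ∧
      ∀ ψ : IrrCharacter G, (ψ : G → ℂ) 1 = m → cnt n ((a : G → ℂ) * (ψ : G → ℂ)) = 0)}
    (fun a ha => ha.imp_right And.left) (Or.inl (by simp)) (fun a ha a' ha' ψ hψ => by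
      have hlinc : ∀ l α : IrrCharacter G, (l : G → ℂ) 1 = (1 : ℕ) → (ψ : G → ℂ) = (l : G → ℂ) * α →
          ((α : G → ℂ) 1 = (1 : ℕ) ∨ ((α : G → ℂ) 1 = n ∧
            ∀ ψ : IrrCharacter G, (ψ : G → ℂ) 1 = m → cnt n ((α : G → ℂ) * (ψ : G → ℂ)) = 0)) →
          ((ψ : G → ℂ) 1 = (1 : ℕ) ∨ ((ψ : G → ℂ) 1 = n ∧
            ∀ ξ : IrrCharacter G, (ξ : G → ℂ) 1 = m → cnt n ((ψ : G → ℂ) * (ξ : G → ℂ)) = 0)) := by
        intro l α hl e hα
        have e1 := congrFun e 1
        rw [Pi.mul_apply, hl, Nat.cast_one, one_mul] at e1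
        rcases hα with hα | ⟨hα, hα'⟩
        · exact Or.inl (e1.trans hα)
        · refine Or.inr ⟨e1.trans hα, fun ξ hξ => ?_⟩
          rw [e, mul_assoc, cnt_linear_mul n l.2 hl]
          exact hα' ξ hξ
      rcases ha with ha | ⟨ha, han⟩
      · exact hlinc a a' ha (hlin a a' ha ψ hψ) ha'
      rcases ha' with ha' | ⟨ha', han'⟩
      · rw [mul_comm] at hψ
        exact hlinc a' a ha' (hlin a' a ha' ψ hψ) (Or.inr ⟨ha, han⟩)
      rcases hcd ψ with e | e | e
      · exact Or.inl e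
      · exfalso
        have h := inner_eq_zero_of_cnt (isCharacter_mul (hchar a') (isCharacter_cj (hchar ψ)))
          (han' ⟨cj (ψ : G → ℂ), isIrr_cj ψ.2⟩ (cj_one e)) ⟨cj (a : G → ℂ), isIrr_cj a.2⟩ (cj_one ha)
        rw [inner_mul_left, cj_cj] at h
        apply hψ
        rw [mul_comm, inner_mul_left]
        have e' : cj (a : G → ℂ) * ψ = (ψ : G → ℂ) * cj (a : G → ℂ) := mul_comm _ _
        rw [← e']
        exact h
      · refine Or.inr ⟨e, fun ξ hξ => ?_⟩
        refine cnt_mul_constituent (isCharacter_mul (hchar a) (hchar a')) (hchar ξ) ?_ ψ hψ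
        rw [mul_comm (a : G → ℂ), mul_assoc, mul_comm]
        rw [cnt_mul n (isCharacter_mul (hchar a) (hchar ξ))]
        refine Finset.sum_eq_zero fun α _ => ?_
        by_cases h1 : classInner ((a : G → ℂ) * (ξ : G → ℂ)) (α : G → ℂ) = 0
        · rw [h1, zero_mul]
        refine mul_eq_zero_of_right _ ?_
        rcases hcd α with eα | eα | eα
        · refine absurd ?_ h1
          have := (mixed hm hn hcop hcd ξ a hξ ha).1
          rw [mul_comm] at this
          exact inner_eq_zero_of_cnt (isCharacter_mul (hchar a) (hchar ξ)) this α eα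
        · rw [mul_comm]; exact han' α eα
        · exact absurd (inner_eq_zero_of_cnt (isCharacter_mul (hchar a) (hchar ξ)) (han ξ hξ) α eα) h1)
    hperf φ (Or.inr ⟨hφ, hN0⟩)
  rw [hφ, Nat.cast_eq_one] at this
  omega

end CfsgLib.ThreeDegrees
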